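import Cfsg.Agent.ThompsonFive.Main
import Cfsg.Agent.KInf.Complement
import Cfsg.Agent.FusSys.ThompsonA

/-!
# For `p ≥ 5` the Thompson subgroup is normal in constrained groups with an abelian top
-/

set_option autoImplicit false

namespace Cfsg.Agent.ThompsonFive

open Subgroup KInf
open scoped commutatorElement

universe u

variable {G : Type u} [Group G] [Finite G] {p : ℕ} [hp : Fact p.Prime]

/-- In a constrained group with an abelian top, `p ≥ 5`, the abelian subgroups of largest order of a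
Sylow `p`-subgroup lie in `O_p`. -/
theorem abMax_le_pCore (h5 : 5 ≤ p) (hC : centralizer (Cfsg.pCore p G : Set G) ≤ Cfsg.pCore p G)
    (hab : AbTop p G) (T : Sylow p G) {A : Subgroup G} (hA : Fusion.AbMax 0 (T : Subgroup G) A) :
    A ≤ Cfsg.pCore p G := by
  obtain ⟨O₀, M₀, hO₀n, hM₀n, hO₀p, m, hm, hcop, hMc, hMe, hMp⟩ := hab
  set O := Cfsg.pCore p G with hO
  have hO₀O : O₀ ≤ O := Core.le_pCore hO₀p
  set M := M₀ ⊔ O with hM
  have hMn : M.Normal := inferInstance
  set π := QuotientGroup.mk' O with hπ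
  have hπs := QuotientGroup.mk'_surjective O
  have hπO : ∀ y, π y = 1 ↔ y ∈ O := fun y => QuotientGroup.eq_one_iff y
  have hdec : ∀ x ∈ M, ∃ x' ∈ M₀, π x = π x' := by
    intro x hx
    obtain ⟨x', hx', o, ho, rfl⟩ := mem_sup_of_normal_right.mp hx
    exact ⟨x', hx', by rw [map_mul, (hπO o).mpr ho, mul_one]⟩
  have hMc' : ∀ x ∈ M, ∀ y ∈ M, ⁅x, y⁆ ∈ O := by
    intro x hx y hy
    obtain ⟨x', hx', hxe⟩ := hdec x hx
    obtain ⟨y', hy', hye⟩ := hdec y hy
    rw [← hπO, map_commutatorElement, hxe, hye, ← map_commutatorElement, hπO]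
    exact hO₀O (hMc x' hx' y' hy')
  have hMe' : ∀ x ∈ M, x ^ m ∈ O := by
    intro x hx
    obtain ⟨x', hx', hxe⟩ := hdec x hx
    rw [← hπO, map_pow, hxe, ← map_pow, hπO]
    exact hO₀O (hMe x' hx')
  have hAT : A ≤ (T : Subgroup G) := hA.le
  have hOT : O ≤ (T : Subgroup G) := Core.pCore_le_sylow T
  have hcen := commutator_mem h5 (O := O) (M := M) Core.pCore_isPGroup hC le_sup_right hcop hMc' hMe'
    hA.comm (T.2.to_le hAT) fun Y hY hYc =>
      hA.max Y (Fusion.abMem_zero_iff.mpr ⟨hY.trans (sup_le hOT hAT), hYc⟩)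
  have htop : (T : Subgroup G) ⊔ M₀ = ⊤ := Fusion.sylow_sup_eq_top_of_isPGroup_quotient T M₀
    fun z => by
      obtain ⟨x, rfl⟩ := QuotientGroup.mk_surjective z
      obtain ⟨a, ha⟩ := hMp x
      exact ⟨a, by rw [← QuotientGroup.mk_pow, QuotientGroup.eq_one_iff]; exact ha⟩
  set Mb := M.map π
  have hMb : Mb.Normal := hMn.map π hπs
  set Lb := (T : Subgroup G).map π ⊓ centralizer (Mb : Set (G ⧸ O)) with hLb
  have hLn : Lb.Normal := by
    rw [← normalizer_eq_top_iff, eq_top_iff, ← Subgroup.map_top_of_surjective π hπs, ← htop,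
      Subgroup.map_sup]
    refine sup_le (fun y hy => mem_normalizer_iff.mpr fun z => ?_) ?_
    · have hn : (centralizer (Mb : Set (G ⧸ O))).Normal := inferInstance
      rw [mem_inf, mem_inf, mem_normalizer_iff.mp (le_normalizer hy) z,
        hn.mem_comm_iff (a := y * z) (b := y⁻¹), inv_mul_cancel_left]
    · exact ((map_mono le_sup_left).trans (le_centralizer_iff.mp (inf_le_right : Lb ≤ _))).trans
        (centralizer_le_normalizer _)
  have hLle : Lb.comap π ≤ O := by
    have hn : (Lb.comap π).Normal := hLn.comap π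
    refine Core.le_pCore ?_
    refine T.2.to_le ((comap_mono inf_le_left).trans ?_)
    rw [Subgroup.comap_map_eq, QuotientGroup.ker_mk']
    exact sup_le le_rfl hOT
  intro c hc
  refine hLle (mem_comap.mpr (mem_inf.mpr ⟨mem_map_of_mem π (hAT hc), mem_centralizer_iff.mpr ?_⟩))
  rintro _ ⟨x, hx, rfl⟩
  refine (commutatorElement_eq_one_iff_mul_comm.mp ?_).symm
  rw [← map_commutatorElement, hπO]
  exact hcen c hc x hx

/-- For `p ≥ 5` the Thompson subgroup of a Sylow `p`-subgroup is normal in a constrained group with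
an abelian top. -/
theorem thompsonSubgroupAOf_normal (h5 : 5 ≤ p)
    (hC : centralizer (Cfsg.pCore p G : Set G) ≤ Cfsg.pCore p G) (hab : AbTop p G)
    (T : Sylow p G) : (Cfsg.thompsonSubgroupAOf (T : Subgroup G)).Normal := by
  have hOT : Cfsg.pCore p G ≤ (T : Subgroup G) := Core.pCore_le_sylow T
  obtain ⟨A₁, hA₁⟩ := Fusion.exists_abMax 0 (T : Subgroup G)
  have e : {A | Fusion.AbMax 0 (T : Subgroup G) A} = {A | Fusion.AbMax 0 (Cfsg.pCore p G) A} := by
    ext A
    constructor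
    · intro (h : Fusion.AbMax 0 (T : Subgroup G) A)
      exact ⟨Fusion.abMem_zero_iff.mpr ⟨abMax_le_pCore h5 hC hab T h, h.comm⟩, fun B hB =>
        h.max B (Fusion.abMem_zero_iff.mpr ⟨hB.le.trans hOT, hB.comm⟩)⟩
    · intro (h : Fusion.AbMax 0 (Cfsg.pCore p G) A)
      exact ⟨Fusion.abMem_zero_iff.mpr ⟨h.le.trans hOT, h.comm⟩, fun B hB => (hA₁.max B hB).trans
        (h.max A₁ (Fusion.abMem_zero_iff.mpr ⟨abMax_le_pCore h5 hC hab T hA₁, hA₁.comm⟩))⟩
  rw [Fusion.thompsonSubgroupAOf_eq, e, ← Fusion.thompsonSubgroupAOf_eq]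
  refine normalizer_eq_top_iff.mp (eq_top_iff.mpr fun g _ => ?_)
  exact FusSys.mem_normalizer_thompsonSubgroupAOf
    ((normalizer_eq_top_iff.mpr (inferInstance : (Cfsg.pCore p G).Normal)).ge (mem_top g))

/-- Thompson: for `p ≥ 5` a group with `N(J(S))` `p`-nilpotent is `p`-nilpotent. -/
theorem hasNormalPComplement_of_thompson (h5 : 5 ≤ p) (S : Sylow p G)
    (hN : Cfsg.HasNormalPComplement p
      ↥(normalizer (Cfsg.thompsonSubgroupAOf (S : Subgroup G) : Set G))) :
    Cfsg.HasNormalPComplement p G := by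
  have hW : Cfsg.IsCharPFunctor.{u} p FusSys.jW :=
    ⟨(FusSys.posFunctor_jW (p := p)).ne_bot, (FusSys.posFunctor_jW (p := p)).map_eq⟩
  refine KInf.hasNormalPComplement_of_minimal hW (fun Y _ _ _ hC _ hab T _ _ hn => hn ?_) S ?_
  · show (FusSys.wsub FusSys.jW (T : Subgroup Y)).Normal
    rw [FusSys.wsub_jW]
    exact thompsonSubgroupAOf_normal h5 hC hab T
  · show Cfsg.HasNormalPComplement p
      ↥(normalizer (FusSys.wsub FusSys.jW (S : Subgroup G) : Set G))
    rw [FusSys.wsub_jW]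
    exact hN

end Cfsg.Agent.ThompsonFive
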