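import Cfsg.Agent.Core.Solvable

/-!
# Iterates of an endomorphism of an abelian `p`-group without fixed subgroups
-/

set_option autoImplicit false

namespace Cfsg.Agent.ThompsonFive

open Subgroup

variable {U : Type*} [CommGroup U]

/-- The values of a symmetric difference calculus vanishing beyond `n` move down along the
images of the iterates. -/
theorem slide {n : ℕ} (hn : 1 ≤ n) (f : Monoid.End U) (c : ℕ → ℕ → U)
    (hf : ∀ i j, f (c i j) = c (i + 1) j * c i (j + 1) * c (i + 1) (j + 1))
    (hz : ∀ i j, n ≤ i ∨ n ≤ j → c i j = 1) :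
    ∀ q i j, n - 1 + q ≤ i + j → ∃ u, (f ^ q) u = c i j := by
  intro q
  induction q with
  | zero => exact fun i j _ => ⟨c i j, rfl⟩
  | succ q ih =>
    have hR : ∀ i j, n - 1 + q ≤ i + j → f (c i j) ∈ (f ^ (q + 1) : U →* U).range := by
      intro i j hij
      obtain ⟨u, hu⟩ := ih i j hij
      exact ⟨u, by rw [pow_succ', ← hu]; rfl⟩
    suffices ∀ k i j, 2 * n ≤ i + j + k → n + q ≤ i + j →
        c i j ∈ (f ^ (q + 1) : U →* U).range by
      intro i j hij
      exact this (2 * n) i j (by omega) (by omega)
    intro k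
    induction k with
    | zero => exact fun i j h _ => by rw [hz i j (by omega)]; exact one_mem _
    | succ k ihk =>
      intro i j
      induction j generalizing i with
      | zero => exact fun _ h => by rw [hz i 0 (by omega)]; exact one_mem _
      | succ j ihj =>
        intro h1 h2
        have a1 := ihj (i + 1) (by omega) (by omega)
        have a2 := ihk (i + 1) (j + 1) (by omega) (by omega)
        have a3 := hR i j (by omega)
        rw [hf] at a3
        have e : c i (j + 1) = (c (i + 1) j)⁻¹ * (c (i + 1) j * c i (j + 1) * c (i + 1) (j + 1)) *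
            (c (i + 1) (j + 1))⁻¹ := by
          rw [← mul_assoc, ← mul_assoc, inv_mul_cancel, one_mul, mul_inv_cancel_right]
        rw [e]
        exact mul_mem (mul_mem (inv_mem a1) a3) (inv_mem a2)

variable [Finite U] {p : ℕ} [Fact p.Prime]

theorem card_le_of_lt_pGroup (hU : IsPGroup p U) {H K : Subgroup U} (h : H < K) :
    Nat.card H * p ≤ Nat.card K := by
  obtain ⟨i, hi⟩ := IsPGroup.iff_card.mp (hU.to_subgroup H)
  obtain ⟨j, hj⟩ := IsPGroup.iff_card.mp (hU.to_subgroup K)
  have hlt := Set.Finite.card_lt_card (K : Set U).toFinite (SetLike.coe_ssubset_coe.mpr h)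
  change Nat.card H < Nat.card K at hlt
  rw [hi, hj] at hlt ⊢
  rw [← pow_succ]
  exact Nat.pow_le_pow_right (Fact.out : p.Prime).pos
    ((Nat.pow_lt_pow_iff_right (Fact.out : p.Prime).one_lt).mp hlt)

/-- An endomorphism fixing no nontrivial subgroup, with image of order `p ^ e`, has `(e+1)`-st
power zero. -/
theorem pow_bound (hU : IsPGroup p U) (f : Monoid.End U)
    (hfix : ∀ H : Subgroup U, H.map f = H → H = ⊥) {e : ℕ}
    (he : Nat.card (f : U →* U).range = p ^ e) : ∀ u, (f ^ (e + 1)) u = 1 := by
  let H : ℕ → Subgroup U := fun k => (Subgroup.map (f : U →* U))^[k] ⊤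
  have hs : ∀ k, H (k + 1) = (H k).map (f : U →* U) := fun k => Function.iterate_succ_apply' _ _ _
  have hle : ∀ k, H (k + 1) ≤ H k := by
    intro k
    induction k with
    | zero => exact le_top
    | succ k ih => rw [hs (k + 1), hs k]; exact map_mono ((hs k).symm.trans_le ih)
  have hbound : ∀ k, H (k + 1) = ⊥ ∨ Nat.card (H (k + 1)) * p ^ k ≤ p ^ e := by
    intro k
    induction k with
    | zero =>
      refine Or.inr (le_of_eq ?_)
      rw [pow_zero, mul_one, ← he, hs 0]
      exact congrArg (fun K : Subgroup U => Nat.card K) (MonoidHom.range_eq_map _).symm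
    | succ k ih =>
      rcases (hle (k + 1)).eq_or_lt with h | h
      · left
        have h' : (H (k + 1)).map (f : U →* U) = H (k + 1) := (hs (k + 1)).symm.trans h
        rw [h]
        exact hfix _ h'
      · rcases ih with h0 | h0
        · exact Or.inl (le_bot_iff.mp (h.le.trans h0.le))
        · refine Or.inr (le_trans ?_ h0)
          rw [pow_succ', ← mul_assoc]
          exact Nat.mul_le_mul_right _ (card_le_of_lt_pGroup hU h)
  have hbot : H (e + 1) = ⊥ := by
    rcases hbound e with h | h
    · exact h
    · refine eq_bot_of_card_le _ ?_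
      exact Nat.le_of_mul_le_mul_right (by rw [one_mul]; exact h) (pow_pos (Fact.out : p.Prime).pos e)
  intro u
  have hmem : ∀ k, (f ^ k) u ∈ H k := by
    intro k
    induction k with
    | zero => exact mem_top _
    | succ k ih =>
      rw [pow_succ', hs]
      exact ⟨_, ih, rfl⟩
  exact mem_bot.mp (hbot ▸ hmem (e + 1))

/-- The last `t` nontrivial iterates of an element span a subgroup of order at least `p ^ t`. -/
theorem card_span (hU : IsPGroup p U) (f : Monoid.End U) {v : U} {n : ℕ}
    (h0 : (f ^ n) v = 1) (h1 : (f ^ (n - 1)) v ≠ 1) :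
    ∀ t ≤ n, p ^ t ≤ Nat.card (closure ((fun s => (f ^ (n - 1 - s)) v) '' {s | s < t})) := by
  intro t
  induction t with
  | zero => intro _; rw [pow_zero]; exact Nat.card_pos
  | succ t ih =>
    intro ht
    refine le_trans ?_ (card_le_of_lt_pGroup (p := p) hU (H := closure ((fun s => (f ^ (n - 1 - s)) v) '' {s | s < t})) ?_)
    · exact (pow_succ p t).trans_le (Nat.mul_le_mul_right p (ih (by omega)))
    · refine lt_of_le_of_ne (closure_mono (Set.image_mono fun s (hs : s < t) => Nat.lt_succ_of_lt hs))
        fun he => h1 ?_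
      have hmem : (f ^ (n - 1 - t)) v ∈
          closure ((fun s => (f ^ (n - 1 - s)) v) '' {s | s < t}) :=
        he.symm ▸ subset_closure ⟨t, Nat.lt_succ_self t, rfl⟩
      have hker : closure ((fun s => (f ^ (n - 1 - s)) v) '' {s | s < t}) ≤
          (f ^ t : U →* U).ker := by
        refine (closure_le _).mpr ?_
        rintro _ ⟨s, hs, rfl⟩
        change (f ^ t) ((f ^ (n - 1 - s)) v) = 1
        have e : t + (n - 1 - s) = (t - 1 - s) + n := by
          have : s < t := hs
          omega
        calc (f ^ t) ((f ^ (n - 1 - s)) v) = (f ^ (t + (n - 1 - s))) v := by rw [pow_add]; rfl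
          _ = (f ^ (t - 1 - s)) ((f ^ n) v) := by rw [e, pow_add]; rfl
          _ = 1 := by rw [h0, map_one]
      have h2 : (f ^ t) ((f ^ (n - 1 - t)) v) = 1 := hker hmem
      have e : n - 1 = t + (n - 1 - t) := by omega
      calc (f ^ (n - 1)) v = (f ^ (t + (n - 1 - t))) v := by rw [← e]
        _ = 1 := by rw [pow_add]; exact h2

end Cfsg.Agent.ThompsonFive
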