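import Cfsg.Agent.ThompsonFive.Chain
import Cfsg.Agent.KInf.Action
import Cfsg.Agent.Fusion.AbMax
import Cfsg.Agent.CentLarge.Basic

/-!
# An abelian subgroup larger than `A` built from iterated differences

`A = ⟨a⟩I` is abelian, `I` inside a normal `p`-subgroup with a class-two layer `B` over a central
`B₀` which `I` centralises.  If the differences `a` of some `b` in `B` stay outside `B₀` long
enough, `A` is not abelian of largest order.
-/

set_option autoImplicit false
set_option maxHeartbeats 1000000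

namespace Cfsg.Agent.ThompsonFive

open Subgroup KInf
open scoped commutatorElement

variable {G : Type*} [Group G] [Finite G] {p : ℕ} [hp : Fact p.Prime]

/-- The commutators of iterated differences, as a calculus. -/
theorem conj_commutator_dg (a u v : G) : a * ⁅u, v⁆ * a⁻¹ = ⁅u * dg a u, v * dg a v⁆ := by
  simp only [dg, commutatorElement_def]; group

theorem dg_iterate_one (a : G) (k : ℕ) : (dg a)^[k] (1 : G) = 1 := by
  induction k with
  | zero => rfl
  | succ k ih => rw [Function.iterate_succ_apply', ih]; simp [dg]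

/-- No such configuration exists for a largest abelian subgroup. -/
theorem count {O A I B B₀ : Subgroup G} [O.Normal] [B.Normal] [B₀.Normal]
    (hO : IsPGroup p O) (hIO : I ≤ O) (hA : IsMulCommutative A) (hIA : I ≤ A)
    (hmax : ∀ Y : Subgroup G, Y ≤ O ⊔ A → IsMulCommutative Y → Nat.card Y ≤ Nat.card A)
    {a : G} (ha : a ∈ A) (hgen : A ≤ I ⊔ zpowers a) {r : ℕ} (har : a ^ p ^ r ∈ I)
    (hBO : B ≤ O) (hB₀B : B₀ ≤ B) (hcen : ∀ u ∈ B, ∀ z ∈ B₀, Commute u z) (hBB : ⁅B, B⁆ ≤ B₀)
    (hOB : ∀ o ∈ O, ∀ u ∈ B, dg o u ∈ B₀) {b : G} (hb : b ∈ B) {n : ℕ}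
    (hn : (dg a)^[n] b ∈ B₀) (hn' : ∀ k < n, (dg a)^[k] b ∉ B₀) (hnr : 2 * r + 3 ≤ n) : False := by
  have hpp := hp.out
  set D := dg a with hDdef
  have hAc : ∀ {x y : G}, x ∈ A → y ∈ A → Commute x y := fun hx hy =>
    Fusion.commute_of_isMulCommutative hA hx hy
  have haI : ∀ i ∈ I, Commute a i := fun i hi => hAc ha (hIA hi)
  have hDB : ∀ {x : G}, x ∈ B → D x ∈ B := fun hx => dg_mem a hx
  have hDB₀ : ∀ {x : G}, x ∈ B₀ → D x ∈ B₀ := fun hx => dg_mem a hx
  have hDkB : ∀ (k : ℕ) {x : G}, x ∈ B → D^[k] x ∈ B := fun k _ hx => dg_iterate_mem a hx k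
  have hDmul : ∀ u ∈ B, ∀ v ∈ B₀, D (u * v) = D u * D v := by
    intro u hu v hv
    have h1 := (hcen _ (hDB hu) v hv).eq
    calc D (u * v) = v⁻¹ * D u * (a * v * a⁻¹) := by simp only [hDdef, dg]; group
      _ = v⁻¹ * (D u * v) * D v := by simp only [hDdef, dg]; group
      _ = D u * D v := by rw [h1, inv_mul_cancel_left]
  have hDkmul : ∀ (k : ℕ), ∀ u ∈ B, ∀ v ∈ B₀, D^[k] (u * v) = D^[k] u * D^[k] v := by
    intro k
    induction k with
    | zero => exact fun u _ v _ => rfl
    | succ k ih =>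
      intro u hu v hv
      simp only [Function.iterate_succ_apply']
      rw [ih u hu v hv, hDmul _ (hDkB k hu) _ (dg_iterate_mem a hv k)]
  -- the displacements of `b`
  set z : G → G := fun i => dg i b with hz
  have hzB₀ : ∀ i ∈ I, z i ∈ B₀ := fun i hi => hOB i (hIO hi) b hb
  have hzmul : ∀ i k : G, z (i * k) = z i * (i * z k * i⁻¹) := fun i k => by
    simp only [hz, dg]; group
  have hswap : ∀ i ∈ I, ∀ j ∈ I, i * z j * i⁻¹ = z j → j * z i * j⁻¹ = z i := by
    intro i hi j hj h
    have h1 := hzmul i j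
    rw [(hAc (hIA hi) (hIA hj)).eq, hzmul j i, h,
      (hcen _ (hB₀B (hzB₀ i hi)) _ (hzB₀ j hj)).eq] at h1
    exact mul_left_cancel h1
  have hcI : ∀ i ∈ I, ∀ w ∈ ⁅B, B⁆, i * w * i⁻¹ = w := by
    intro i hi w hw
    have hle : ⁅B, B⁆ ≤ centralizer ({i} : Set G) := commutator_le.mpr fun u hu v hv => by
      refine mem_centralizer_singleton_iff.mpr (mul_inv_eq_iff_eq_mul.mp ?_).symm
      rw [conj_commutator_dg]
      have hu' := hOB i (hIO hi) u hu
      have hv' := hOB i (hIO hi) v hv
      have h1 := hcen v hv _ hu'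
      have h2 := hcen u hu _ hv'
      have h3 := hcen _ (hB₀B hv') _ hu'
      generalize dg i u = x, dg i v = y at h1 h2 h3 ⊢
      calc ⁅u * x, v * y⁆ = u * x * v * y * (x⁻¹ * u⁻¹) * (y⁻¹ * v⁻¹) := by
            rw [commutatorElement_def]; group
        _ = u * (x * v) * (y * x⁻¹) * (u⁻¹ * y⁻¹) * v⁻¹ := by group
        _ = u * (v * x) * (x⁻¹ * y) * (y⁻¹ * u⁻¹) * v⁻¹ := by
            rw [h1.symm.eq, (h3.inv_right).eq, (h2.inv_inv).eq]
        _ = ⁅u, v⁆ := by rw [commutatorElement_def]; group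
    exact mul_inv_eq_iff_eq_mul.mpr (mem_centralizer_singleton_iff.mp (hle hw)).symm
  -- the subgroup `W`
  set Sg : Set G := {w | ∃ c ∈ A, ∃ i ∈ I, w = c * z i * c⁻¹} ∪ (⁅B, B⁆ : Subgroup G) with hSg
  set W := closure Sg with hW
  have hWB₀ : W ≤ B₀ := by
    refine (closure_le _).mpr (Set.union_subset ?_ (SetLike.coe_subset_coe.mpr hBB))
    rintro _ ⟨c, -, i, hi, rfl⟩
    exact (‹B₀.Normal›).conj_mem _ (hzB₀ i hi) c
  have hWA : ∀ c ∈ A, ∀ w ∈ W, c * w * c⁻¹ ∈ W := by
    intro c hc w hw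
    suffices W ≤ W.comap (MulAut.conj c).toMonoidHom from this hw
    refine (closure_le _).mpr ?_
    rintro s (⟨d, hd, i, hi, rfl⟩ | hs)
    · exact subset_closure (Or.inl ⟨c * d, mul_mem hc hd, i, hi, by
        change c * (d * z i * d⁻¹) * c⁻¹ = c * d * z i * (c * d)⁻¹
        group⟩)
    · exact subset_closure (Or.inr ((inferInstance : (⁅B, B⁆ : Subgroup G).Normal).conj_mem s hs c))
  have hzW : ∀ i ∈ I, z i ∈ W := fun i hi =>
    subset_closure (Or.inl ⟨1, one_mem A, i, hi, by group⟩)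
  set U := W ⊓ centralizer (I : Set G) with hU
  set K := I ⊓ centralizer (W : Set G) with hK
  set UA := W ⊓ centralizer (A : Set G) with hUA
  have hzU : ∀ i ∈ I, i ∈ K ↔ z i ∈ U := by
    intro i hi
    constructor
    · intro h
      refine mem_inf.mpr ⟨hzW i hi, mem_centralizer_iff.mpr fun j hj => ?_⟩
      have h1 : i * z j * i⁻¹ = z j := by
        rw [← mem_centralizer_iff.mp h.2 _ (hzW j hj), mul_inv_cancel_right]
      exact mul_inv_eq_iff_eq_mul.mp (hswap i hi j hj h1)
    · intro h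
      refine mem_inf.mpr ⟨hi, ?_⟩
      have hle : W ≤ centralizer ({i} : Set G) := by
        refine (closure_le _).mpr ?_
        rintro s (⟨c, hc, j, hj, rfl⟩ | hs)
        · refine mem_centralizer_singleton_iff.mpr ?_
          have h1 : j * z i * j⁻¹ = z i := by
            rw [mem_centralizer_iff.mp h.2 j hj, mul_inv_cancel_right]
          have h2 : Commute i (z j) := mul_inv_eq_iff_eq_mul.mp (hswap j hj i hi h1)
          have h3 : Commute i c := hAc (hIA hi) hc
          exact ((h3.mul_right h2).mul_right h3.inv_right).symm.eq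
        · exact mem_centralizer_singleton_iff.mpr (mul_inv_eq_iff_eq_mul.mp (hcI i hi s hs)).symm
      exact mem_centralizer_iff.mpr fun w hw => mem_centralizer_singleton_iff.mp (hle hw)
  -- `|I : K| ≤ |W : U|`
  have hidx : Nat.card I * Nat.card U ≤ Nat.card K * Nat.card W := by
    have hinj : Function.Injective (fun q : I ⧸ K.subgroupOf I =>
        (QuotientGroup.mk ⟨z q.out, hzW _ q.out.2⟩ : W ⧸ U.subgroupOf W)) := by
      intro q q' he
      have h1 : (z (q.out : G))⁻¹ * z (q'.out : G) ∈ U := mem_subgroupOf.mp ((QuotientGroup.eq (s := U.subgroupOf W)).mp he)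
      have hk : (q.out : G)⁻¹ * (q'.out : G) ∈ K := by
        have hk' := mul_mem (inv_mem q.out.2) q'.out.2
        refine (hzU _ hk').mpr ?_
        have h2 := hzmul (q.out : G) ((q.out : G)⁻¹ * q'.out)
        rw [mul_inv_cancel_left] at h2
        rw [h2, inv_mul_cancel_left] at h1
        have h4 := mem_inf.mp h1
        have h5 : z ((q.out : G)⁻¹ * q'.out) ∈ centralizer (I : Set G) := by
          refine mem_centralizer_iff.mpr fun j hj => ?_
          have h3 := mem_centralizer_iff.mp h4.2 j hj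
          have hji : Commute j (q.out : G) := hAc (hIA hj) (hIA q.out.2)
          generalize z ((q.out : G)⁻¹ * q'.out) = w at h3 ⊢
          generalize (q.out : G) = i at h3 hji ⊢
          calc j * w = i⁻¹ * (j * (i * w * i⁻¹)) * i := by
                rw [show j * (i * w * i⁻¹) = j * i * (w * i⁻¹) by group, hji.eq]; group
            _ = i⁻¹ * (i * w * i⁻¹ * j) * i := by rw [h3]
            _ = w * (i⁻¹ * j * i) := by group
            _ = w * j := by rw [← hji.inv_right.eq, inv_mul_cancel_right]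
        exact mem_inf.mpr ⟨hzW _ hk', h5⟩
      rw [← QuotientGroup.out_eq' q, ← QuotientGroup.out_eq' q']
      exact QuotientGroup.eq.mpr hk
    have h1 := Nat.card_le_card_of_injective _ hinj
    have e1 : Nat.card I = (K.subgroupOf I).index * Nat.card K := by
      rw [← Subgroup.index_mul_card (K.subgroupOf I),
        Nat.card_congr (subgroupOfEquivOfLe (inf_le_left : K ≤ I)).toEquiv]
    have e2 : Nat.card W = (U.subgroupOf W).index * Nat.card U := by
      rw [← Subgroup.index_mul_card (U.subgroupOf W),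
        Nat.card_congr (subgroupOfEquivOfLe (inf_le_left : U ≤ W)).toEquiv]
    change (K.subgroupOf I).index ≤ (U.subgroupOf W).index at h1
    rw [e1, e2]
    calc (K.subgroupOf I).index * Nat.card K * Nat.card U
        ≤ (U.subgroupOf W).index * Nat.card K * Nat.card U :=
          Nat.mul_le_mul_right _ (Nat.mul_le_mul_right _ h1)
      _ = _ := by ring
  have hUAU : UA ≤ U := inf_le_inf_left _ (centralizer_le (SetLike.coe_subset_coe.mpr hIA))
  have hB₀c : ∀ x ∈ B₀, ∀ y ∈ B₀, x * y = y * x := fun x hx y hy => (hcen x (hB₀B hx) y hy).eq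
  -- the endomorphism of `U`
  have hDU : ∀ u ∈ U, D u ∈ U := by
    intro u hu
    refine mul_mem (inv_mem hu) (mem_inf.mpr ⟨hWA a ha u hu.1, ?_⟩)
    refine mem_centralizer_iff.mpr fun i hi => ?_
    exact ((((haI i hi).symm).mul_right (mem_centralizer_iff.mp hu.2 i hi)).mul_right
      ((haI i hi).symm.inv_right)).eq
  have hUc : IsMulCommutative U :=
    Fusion.isMulCommutative_of_forall fun x hx y hy => hB₀c x (hWB₀ hx.1) y (hWB₀ hy.1)
  obtain ⟨e, he, hDe⟩ : ∃ e, Nat.card U = p ^ e * Nat.card UA ∧ ∀ u ∈ U, D^[e + 1] u = 1 := by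
    open scoped IsMulCommutative in
    let f : Monoid.End U :=
      { toFun := fun u => ⟨D u, hDU u u.2⟩
        map_one' := Subtype.ext (by simp [hDdef, dg])
        map_mul' := fun u v => Subtype.ext (hDmul u (hB₀B (hWB₀ u.2.1)) v (hWB₀ v.2.1)) }
    have hfk : ∀ (k : ℕ) (u : U), (((f ^ k) u : U) : G) = D^[k] u := by
      intro k
      induction k with
      | zero => exact fun u => rfl
      | succ k ih =>
        intro u
        rw [pow_succ', Function.iterate_succ_apply', ← ih u]
        rfl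
    have hUp : IsPGroup p U := hO.to_le (inf_le_left.trans (hWB₀.trans (hB₀B.trans hBO)))
    have hker : (f : U →* U).ker = UA.subgroupOf U := by
      ext u
      rw [MonoidHom.mem_ker, mem_subgroupOf]
      have hca : f u = 1 ↔ Commute a (u : G) := by
        rw [Subtype.ext_iff]
        change (u : G)⁻¹ * (a * u * a⁻¹) = 1 ↔ _
        rw [inv_mul_eq_one, eq_comm, mul_inv_eq_iff_eq_mul]
        rfl
      refine hca.trans ?_
      constructor
      · intro h
        refine mem_inf.mpr ⟨u.2.1, mem_centralizer_iff.mpr fun c hc => ?_⟩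
        have hle : I ⊔ zpowers a ≤ centralizer ({(u : G)} : Set G) :=
          sup_le (fun i hi => mem_centralizer_singleton_iff.mpr (mem_centralizer_iff.mp u.2.2 i hi))
            (zpowers_le.mpr (mem_centralizer_singleton_iff.mpr h.eq))
        exact mem_centralizer_singleton_iff.mp (hle (hgen hc))
      · exact fun h => mem_centralizer_iff.mp h.2 a ha
    obtain ⟨e, he⟩ := IsPGroup.iff_card.mp (hUp.to_subgroup (f : U →* U).range)
    have hcard : Nat.card U = p ^ e * Nat.card UA := by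
      rw [← Subgroup.card_mul_index (f : U →* U).ker, Subgroup.index_ker, ← he, hker,
        Nat.card_congr (subgroupOfEquivOfLe hUAU).toEquiv, mul_comm]
    refine ⟨e, hcard, fun u hu => ?_⟩
    have hfix : ∀ H : Subgroup U, H.map (f : U →* U) = H → H = ⊥ := by
      intro H hH
      by_contra hne
      set Hb := H.map U.subtype with hHb
      have haH : zpowers a ≤ normalizer (Hb : Set G) := by
        refine zpowers_le.mpr (Control.mem_normalizer_of_cjSub_eq
          (eq_of_le_of_card_ge ?_ (Control.card_cjSub a Hb).ge))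
        rintro _ ⟨_, ⟨x, hx, rfl⟩, rfl⟩
        refine ⟨x * f x, mul_mem hx (hH.le (mem_map_of_mem _ hx)), ?_⟩
        exact mul_dg a (x : G)
      have hHp : IsPGroup p Hb := (hUp.to_subgroup H).map _
      have hap : IsPGroup p (zpowers a) := by
        obtain ⟨s, hs⟩ := hO ⟨_, hIO har⟩
        have h1 : orderOf a ∣ p ^ (r + s) := orderOf_dvd_of_pow_eq_one (by
          rw [pow_add, pow_mul]; exact congrArg Subtype.val hs)
        obtain ⟨t, -, ht⟩ := (Nat.dvd_prime_pow hpp).mp h1
        exact IsPGroup.of_card (n := t) (by rw [Nat.card_zpowers, ht])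
      set S := Hb ⊔ zpowers a
      have hSp : IsPGroup p S := IsPGroup.to_sup_of_normal_left' hHp hap haH
      have := hSp.isNilpotent
      have hn : (Hb.subgroupOf S).Normal := (normal_subgroupOf_iff_le_normalizer le_sup_left).mpr
        (sup_le le_normalizer haH)
      have hne' : Hb.subgroupOf S ≠ ⊥ := fun h => hne (by
        rw [subgroupOf_eq_bot, disjoint_iff, inf_of_le_left le_sup_left, hHb,
          map_eq_bot_iff_of_injective _ U.subtype_injective] at h
        exact h)
      obtain ⟨w, ⟨hw, hwc⟩, hw1⟩ :=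
        (Hb.subgroupOf S ⊓ center S).bot_or_exists_ne_one.resolve_left (Core.inf_center_ne_bot hne')
      obtain ⟨x, hx, hxw⟩ := hw
      have hxa : Commute a (x : G) := by
        have := congrArg Subtype.val (mem_center_iff.mp hwc ⟨a, mem_sup_right (mem_zpowers a)⟩)
        rw [show (x : G) = w from hxw]
        exact this
      have hfx : f x = 1 := Subtype.ext (by
        change (x : G)⁻¹ * (a * x * a⁻¹) = 1
        rw [hxa.eq, mul_inv_cancel_right, inv_mul_cancel])
      let F : H → H := fun y => ⟨f y, hH.le (mem_map_of_mem _ y.2)⟩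
      have hsurj : Function.Surjective F := fun y => by
        obtain ⟨w', hw', hwy⟩ := hH.ge y.2
        exact ⟨⟨w', hw'⟩, Subtype.ext hwy⟩
      have h2 := (Finite.injective_iff_surjective.mpr hsurj) (a₁ := ⟨x, hx⟩) (a₂ := ⟨1, one_mem H⟩)
        (Subtype.ext (hfx.trans (map_one f).symm))
      exact hw1 (Subtype.ext (hxw.symm.trans (congrArg (fun y : H => ((y : U) : G)) h2)))
    have h := pow_bound hUp f hfix he ⟨u, hu⟩
    exact (hfk (e + 1) ⟨u, hu⟩).symm.trans (congrArg Subtype.val h)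
  -- the commutators of the differences
  have hc0 : ∀ i j, ⁅D^[i] b, D^[j] b⁆ ∈ U := fun i j => by
    have h : ⁅D^[i] b, D^[j] b⁆ ∈ ⁅B, B⁆ := commutator_mem_commutator (hDkB i hb) (hDkB j hb)
    exact mem_inf.mpr ⟨subset_closure (Or.inr h), mem_centralizer_iff.mpr fun k hk =>
      mul_inv_eq_iff_eq_mul.mp (hcI k hk _ h)⟩
  have hDn : ∀ k, n ≤ k → D^[k] b ∈ B₀ := fun k hk => by
    obtain ⟨d, rfl⟩ := Nat.exists_eq_add_of_le hk
    rw [add_comm, Function.iterate_add_apply]
    exact dg_iterate_mem a hn d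
  have hcz : ∀ i j, n ≤ i ∨ n ≤ j → ⁅D^[i] b, D^[j] b⁆ = 1 := fun i j h =>
    commutatorElement_eq_one_iff_mul_comm.mpr (by
      rcases h with h | h
      · exact (hcen _ (hDkB j hb) _ (hDn i h)).symm.eq
      · exact (hcen _ (hDkB i hb) _ (hDn j h)).eq)
  have hcomm : ∀ i j, n + e ≤ i + j → Commute (D^[i] b) (D^[j] b) := by
    intro i j hij
    open scoped IsMulCommutative in
    let f : Monoid.End U :=
      { toFun := fun u => ⟨D u, hDU u u.2⟩
        map_one' := Subtype.ext (by simp [hDdef, dg])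
        map_mul' := fun u v => Subtype.ext (hDmul u (hB₀B (hWB₀ u.2.1)) v (hWB₀ v.2.1)) }
    have hfk : ∀ (k : ℕ) (u : U), (((f ^ k) u : U) : G) = D^[k] u := by
      intro k
      induction k with
      | zero => exact fun u => rfl
      | succ k ih =>
        intro u
        rw [pow_succ', Function.iterate_succ_apply', ← ih u]
        rfl
    open scoped IsMulCommutative in
    obtain ⟨u, hu⟩ := slide (n := n) (by omega) f (fun i j => ⟨⁅D^[i] b, D^[j] b⁆, hc0 i j⟩)
      (fun i j => Subtype.ext (by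
        change D ⁅D^[i] b, D^[j] b⁆ =
          ⁅D^[i + 1] b, D^[j] b⁆ * ⁅D^[i] b, D^[j + 1] b⁆ * ⁅D^[i + 1] b, D^[j + 1] b⁆
        rw [Function.iterate_succ_apply' D i, Function.iterate_succ_apply' D j]
        set x := D^[i] b with hx
        set y := D^[j] b with hy
        have hxB : x ∈ B := hDkB i hb
        have hyB : y ∈ B := hDkB j hb
        have hcc : ∀ s ∈ B, ∀ t ∈ B, ∀ u ∈ B, Commute u ⁅s, t⁆ := fun s hs t ht u hu =>
          hcen u hu _ (hBB (commutator_mem_commutator hs ht))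
        have e1 : ∀ s ∈ B, ∀ s' ∈ B, ∀ t ∈ B, ⁅s * s', t⁆ = ⁅s, t⁆ * ⁅s', t⁆ := by
          intro s hs s' hs' t ht
          calc ⁅s * s', t⁆ = s * ⁅s', t⁆ * s⁻¹ * ⁅s, t⁆ := by
                simp only [commutatorElement_def]; group
            _ = ⁅s', t⁆ * ⁅s, t⁆ := by rw [(hcc s' hs' t ht s hs).eq, mul_inv_cancel_right]
            _ = _ := hB₀c _ (hBB (commutator_mem_commutator hs' ht)) _
              (hBB (commutator_mem_commutator hs ht))
        have e2 : ∀ s ∈ B, ∀ t ∈ B, ∀ t' ∈ B, ⁅s, t * t'⁆ = ⁅s, t⁆ * ⁅s, t'⁆ := by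
          intro s hs t ht t' ht'
          calc ⁅s, t * t'⁆ = ⁅s, t⁆ * (t * ⁅s, t'⁆ * t⁻¹) := by
                simp only [commutatorElement_def]; group
            _ = _ := by rw [(hcc s hs t' ht' t ht).eq, mul_inv_cancel_right]
        have e3 : D ⁅x, y⁆ = ⁅x, y⁆⁻¹ * ⁅x * D x, y * D y⁆ := by
          rw [← conj_commutator_dg]; rfl
        rw [e3, e2 _ (mul_mem hxB (hDB hxB)) _ hyB _ (hDB hyB), e1 _ hxB _ (hDB hxB) _ hyB,
          e1 _ hxB _ (hDB hxB) _ (hDB hyB)]
        group))
      (fun i j h => Subtype.ext (hcz i j h)) (e + 1) i j (by omega)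
    refine commutatorElement_eq_one_iff_mul_comm.mp ?_
    rw [← show (((f ^ (e + 1)) u : U) : G) = ⁅D^[i] b, D^[j] b⁆ from congrArg Subtype.val hu, hfk]
    exact hDe u u.2
  -- the first abelian subgroup
  have hAOA : A ≤ O ⊔ A := le_sup_right
  have hB₀O : B₀ ≤ O := hB₀B.trans hBO
  have hUAA : UA ≤ A := by
    intro x hx
    set Y := closure ((A : Set G) ∪ {x})
    have hY : IsMulCommutative Y := isMulCommutative_closure fun s hs t ht => by
      rcases hs with hs | rfl <;> rcases ht with ht | rfl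
      · exact (hAc hs ht).eq
      · exact mem_centralizer_iff.mp hx.2 s hs
      · exact (mem_centralizer_iff.mp hx.2 t ht).symm
      · rfl
    have hAY : A ≤ Y := fun s hs => subset_closure (Or.inl hs)
    have hYle : Y ≤ O ⊔ A := (closure_le _).mpr (Set.union_subset (SetLike.coe_subset_coe.mpr hAOA)
      (Set.singleton_subset_iff.mpr (mem_sup_left (hB₀O (hWB₀ hx.1)))))
    exact (eq_of_le_of_card_ge hAY (hmax Y hYle hY)).ge (subset_closure (Or.inr rfl))
  have hcardA : Nat.card A ≤ Nat.card I * p ^ r := by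
    have hsurj : ∀ x : A, ∃ s : I × Fin (p ^ r), (s.1 : G) * a ^ (s.2 : ℕ) = x := by
      intro x
      have hx := hgen x.2
      have hn : zpowers a ≤ normalizer (I : Set G) := zpowers_le.mpr (mem_normalizer_iff.mpr fun y =>
        ⟨fun hy => by rwa [(haI y hy).eq, mul_inv_cancel_right], fun hy => by
          have h1 := haI _ hy
          have h2 : y = a * y * a⁻¹ :=
            calc y = a⁻¹ * ((a * y * a⁻¹) * a) := by group
              _ = a⁻¹ * (a * (a * y * a⁻¹)) := by rw [h1.eq]
              _ = a * y * a⁻¹ := inv_mul_cancel_left _ _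
          rwa [← h2] at hy⟩)
      rw [← SetLike.mem_coe, coe_mul_of_right_le_normalizer_left I (zpowers a) hn] at hx
      obtain ⟨i, hi, w, ⟨j, rfl⟩, hij⟩ := hx
      have hpr : (0 : ℤ) < ((p ^ r : ℕ) : ℤ) := by exact_mod_cast pow_pos hpp.pos r
      refine ⟨(⟨i * (a ^ (p ^ r : ℕ)) ^ (j / ((p ^ r : ℕ) : ℤ)), mul_mem hi (zpow_mem har _)⟩,
        ⟨(j % ((p ^ r : ℕ) : ℤ)).toNat, ?_⟩), ?_⟩
      · have := Int.emod_lt_of_pos j hpr
        have := Int.emod_nonneg j hpr.ne'
        omega
      · change i * (a ^ (p ^ r : ℕ)) ^ (j / ((p ^ r : ℕ) : ℤ)) *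
          a ^ (j % ((p ^ r : ℕ) : ℤ)).toNat = x
        rw [← zpow_natCast a (p ^ r), ← zpow_mul, ← zpow_natCast a,
          Int.toNat_of_nonneg (Int.emod_nonneg j hpr.ne'), mul_assoc, ← zpow_add,
          Int.mul_ediv_add_emod]
        exact hij
    choose f hf using hsurj
    have hinj : Function.Injective f := fun x y h => Subtype.ext (by rw [← hf x, ← hf y, h])
    exact (Nat.card_le_card_of_injective f hinj).trans_eq (by rw [Nat.card_prod, Nat.card_fin])
  set X₀ := closure ((K : Set G) ∪ (W : Set G)) with hX₀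
  have hKX : K ≤ X₀ := fun x hx => subset_closure (Or.inl hx)
  have hWX : W ≤ X₀ := fun x hx => subset_closure (Or.inr hx)
  have hKWc : ∀ s ∈ (K : Set G) ∪ (W : Set G), ∀ t ∈ (K : Set G) ∪ (W : Set G), s * t = t * s := by
    rintro s (hs | hs) t (ht | ht)
    · exact (hAc (hIA hs.1) (hIA ht.1)).eq
    · exact (mem_centralizer_iff.mp hs.2 t ht).symm
    · exact mem_centralizer_iff.mp ht.2 s hs
    · exact hB₀c s (hWB₀ hs) t (hWB₀ ht)
  have hX₀O : X₀ ≤ O := (closure_le _).mpr (Set.union_subset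
    (SetLike.coe_subset_coe.mpr (inf_le_left.trans hIO)) (SetLike.coe_subset_coe.mpr (hWB₀.trans hB₀O)))
  have hX₀card : Nat.card I * p ^ e ≤ Nat.card X₀ := by
    have h1 := CentLarge.card_mul_le_of_le hKX hWX
    have h2 : Nat.card ↥(K ⊓ W) ≤ Nat.card UA := Nat.le_of_dvd Nat.card_pos (card_dvd_of_le
      fun x hx => mem_inf.mpr ⟨hx.2, mem_centralizer_iff.mpr fun c hc => (hAc hc (hIA hx.1.1)).eq⟩)
    have h3 : Nat.card I * p ^ e * Nat.card UA ≤ Nat.card X₀ * Nat.card UA :=
      calc Nat.card I * p ^ e * Nat.card UA = Nat.card I * Nat.card U := by rw [he, mul_assoc]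
        _ ≤ Nat.card K * Nat.card W := hidx
        _ ≤ Nat.card X₀ * Nat.card ↥(K ⊓ W) := h1
        _ ≤ _ := Nat.mul_le_mul_left _ h2
    exact Nat.le_of_mul_le_mul_right h3 Nat.card_pos
  rcases Nat.lt_or_ge r e with hre | her
  · have h1 := hmax X₀ (hX₀O.trans le_sup_left) (isMulCommutative_closure hKWc)
    have h2 := Nat.mul_lt_mul_of_pos_left (Nat.pow_lt_pow_right hpp.one_lt hre)
      (Nat.card_pos (α := I))
    omega
  -- the second abelian subgroup
  set k₀ := n - 2 - r + e with hk₀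
  set T : Set G := (fun k => D^[k] b) '' {k | k₀ ≤ k ∧ k + 2 ≤ n} with hT
  set X := closure ((X₀ : Set G) ∪ T) with hX
  have hKb : ∀ i ∈ K, ∀ k, e + 1 ≤ k → Commute i (D^[k] b) := by
    intro i hi k hk
    have hconj : ∀ k, i * D^[k] b * i⁻¹ = D^[k] (i * b * i⁻¹) := by
      intro k
      induction k with
      | zero => rfl
      | succ k ih =>
        rw [Function.iterate_succ_apply', Function.iterate_succ_apply', ← ih]
        simp only [hDdef, dg]
        have h1 : Commute a i := haI i hi.1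
        generalize (dg a)^[k] b = w
        calc i * (w⁻¹ * (a * w * a⁻¹)) * i⁻¹
            = (i * w * i⁻¹)⁻¹ * ((i * a) * w * (i * a)⁻¹) := by group
          _ = (i * w * i⁻¹)⁻¹ * ((a * i) * w * (a * i)⁻¹) := by rw [h1.eq]
          _ = _ := by group
    have h1 : z i ∈ U := (hzU i hi.1).mp hi
    have h2 : i * b * i⁻¹ = b * z i := (mul_dg i b).symm
    have h3 : D^[k] (z i) = 1 := by
      obtain ⟨d, rfl⟩ := Nat.exists_eq_add_of_le hk
      rw [add_comm, Function.iterate_add_apply, hDe _ h1]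
      exact dg_iterate_one a d
    have h4 := hconj k
    rw [h2, hDkmul k b hb _ (hzB₀ i hi.1), h3, mul_one] at h4
    exact mul_inv_eq_iff_eq_mul.mp h4
  have hTB : T ⊆ B := by
    rintro _ ⟨k, -, rfl⟩
    exact hDkB k hb
  have hXc : IsMulCommutative X := isMulCommutative_closure (by
    have hTX₀ : ∀ t ∈ T, ∀ s ∈ X₀, t * s = s * t := by
      rintro _ ⟨k, ⟨hk1, hk2⟩, rfl⟩ s hs
      have hle : X₀ ≤ centralizer ({D^[k] b} : Set G) := by
        refine (closure_le _).mpr ?_
        rintro w (hw | hw)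
        · exact mem_centralizer_singleton_iff.mpr (hKb w hw k (by omega)).eq
        · exact mem_centralizer_singleton_iff.mpr (hcen _ (hDkB k hb) w (hWB₀ hw)).symm.eq
      exact (mem_centralizer_singleton_iff.mp (hle hs)).symm
    rintro s (hs | hs) t (ht | ht)
    · exact (Fusion.commute_of_isMulCommutative (isMulCommutative_closure hKWc) hs ht).eq
    · exact (hTX₀ t ht s hs).symm
    · exact hTX₀ s hs t ht
    · obtain ⟨i, ⟨hi1, hi2⟩, rfl⟩ := hs
      obtain ⟨j, ⟨hj1, hj2⟩, rfl⟩ := ht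
      rcases eq_or_ne i j with rfl | hij
      · rfl
      · exact (hcomm i j (by omega)).eq)
  have hXle : X ≤ O ⊔ A := (closure_le _).mpr (Set.union_subset
    (SetLike.coe_subset_coe.mpr (hX₀O.trans le_sup_left))
    (hTB.trans (SetLike.coe_subset_coe.mpr (hBO.trans le_sup_left))))
  set π := QuotientGroup.mk' B₀ with hπ
  have hπs := QuotientGroup.mk'_surjective B₀
  set Vb := B.map π with hVb
  have hVc : IsMulCommutative Vb := by
    refine Fusion.isMulCommutative_of_forall ?_
    rintro _ ⟨u, hu, rfl⟩ _ ⟨v, hv, rfl⟩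
    change π u * π v = π v * π u
    rw [← commutatorElement_eq_one_iff_mul_comm, ← map_commutatorElement]
    exact (QuotientGroup.eq_one_iff _).mpr (hBB (commutator_mem_commutator hu hv))
  have hVp : IsPGroup p Vb := (hO.to_le hBO).map π
  have hVmem : ∀ v : Vb, dg (π a) (v : G ⧸ B₀) ∈ Vb := by
    rintro ⟨_, u, hu, rfl⟩
    exact ⟨D u, hDB hu, map_dg π a u⟩
  open scoped IsMulCommutative in
  let φ : Monoid.End Vb :=
    { toFun := fun v => ⟨dg (π a) v, hVmem v⟩
      map_one' := Subtype.ext (by simp [dg])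
      map_mul' := fun u v => Subtype.ext (by
        change dg (π a) ((u : G ⧸ B₀) * v) = dg (π a) u * dg (π a) v
        have h1 : Commute (dg (π a) (u : G ⧸ B₀)) (v : G ⧸ B₀) :=
          Fusion.commute_of_isMulCommutative hVc (hVmem u) v.2
        calc dg (π a) ((u : G ⧸ B₀) * v)
            = (v : G ⧸ B₀)⁻¹ * dg (π a) u * v * dg (π a) v := by simp only [dg]; group
          _ = dg (π a) u * dg (π a) v := by
            rw [mul_assoc (v : G ⧸ B₀)⁻¹, h1.eq, inv_mul_cancel_left]) }
  have hφk : ∀ (k : ℕ) (u : G) (hu : u ∈ B),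
      ((φ ^ k) ⟨π u, mem_map_of_mem π hu⟩ : G ⧸ B₀) = π (D^[k] u) := by
    intro k u hu
    induction k with
    | zero => rfl
    | succ k ih =>
      rw [pow_succ', Function.iterate_succ_apply', map_dg, ← ih]
      rfl
  set Tg := X ⊓ B with hTg
  let ψ : Tg →* Vb :=
    { toFun := fun x => (φ ^ 1) ⟨π (x : G), mem_map_of_mem π (mem_inf.mp x.2).2⟩
      map_one' := by
        rw [← map_one (φ ^ 1)]
        exact congrArg _ (Subtype.ext (map_one π))
      map_mul' := fun x y => by
        rw [← map_mul (φ ^ 1)]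
        exact congrArg _ (Subtype.ext (map_mul π (x : G) y)) }
  have hψ : ∀ x : Tg, (ψ x : G ⧸ B₀) = π (D x) := fun x => hφk 1 _ (mem_inf.mp x.2).2
  set vb : Vb := ⟨π b, mem_map_of_mem π hb⟩
  have hψrange : p ^ (r + 1 - e) ≤ Nat.card ψ.range := by
    have h0 : (φ ^ n) vb = 1 := Subtype.ext ((hφk n b hb).trans ((QuotientGroup.eq_one_iff _).mpr hn))
    have h1 : (φ ^ (n - 1)) vb ≠ 1 := fun h => hn' (n - 1) (by omega)
      ((QuotientGroup.eq_one_iff _).mp ((hφk (n - 1) b hb).symm.trans (congrArg Subtype.val h)))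
    open scoped IsMulCommutative in
    refine (card_span hVp φ h0 h1 (r + 1 - e) (by omega)).trans
      (Nat.le_of_dvd Nat.card_pos (card_dvd_of_le ((closure_le _).mpr ?_)))
    rintro _ ⟨s, hs, rfl⟩
    have hs' : s < r + 1 - e := hs
    have hmem : D^[n - 2 - s] b ∈ Tg := mem_inf.mpr
      ⟨subset_closure (Or.inr ⟨n - 2 - s, ⟨by omega, by omega⟩, rfl⟩), hDkB _ hb⟩
    refine ⟨⟨_, hmem⟩, Subtype.ext ?_⟩
    rw [hψ]
    change π (D (D^[n - 2 - s] b)) = ((φ ^ (n - 1 - s)) vb : G ⧸ B₀)
    rw [hφk _ b hb, ← Function.iterate_succ_apply' D, show (n - 2 - s).succ = n - 1 - s by omega]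
  have hkerle : Nat.card ↥(X₀ ⊓ Tg) ≤ Nat.card ψ.ker := by
    have hle : (X₀ ⊓ Tg).subgroupOf Tg ≤ ψ.ker := by
      intro x hx
      rw [MonoidHom.mem_ker]
      refine Subtype.ext ?_
      rw [hψ]
      refine (QuotientGroup.eq_one_iff _).mpr ?_
      have hKW : ∀ w ∈ X₀, ∃ i ∈ K, ∃ v ∈ W, w = i * v := by
        intro w hw
        induction hw using closure_induction with
        | mem s hs =>
          rcases hs with hs | hs
          · exact ⟨s, hs, 1, one_mem W, (mul_one s).symm⟩
          · exact ⟨1, one_mem K, s, hs, (one_mul s).symm⟩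
        | one => exact ⟨1, one_mem K, 1, one_mem W, (mul_one 1).symm⟩
        | mul s t _ _ h1 h2 =>
          obtain ⟨i, hi, v, hv, rfl⟩ := h1
          obtain ⟨i', hi', v', hv', rfl⟩ := h2
          refine ⟨i * i', mul_mem hi hi', v * v', mul_mem hv hv', ?_⟩
          have : v * i' = i' * v := hKWc v (Or.inr hv) i' (Or.inl hi')
          calc i * v * (i' * v') = i * (v * i') * v' := by group
            _ = _ := by rw [this]; group
        | inv s _ h1 =>
          obtain ⟨i, hi, v, hv, rfl⟩ := h1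
          refine ⟨i⁻¹, inv_mem hi, v⁻¹, inv_mem hv, ?_⟩
          rw [mul_inv_rev]
          exact hKWc _ (Or.inr (inv_mem hv)) _ (Or.inl (inv_mem hi))
      obtain ⟨i, hi, v, hv, hiv⟩ := hKW _ (mem_subgroupOf.mp hx).1
      have hiB : i ∈ B := by
        have h := mul_mem (mem_inf.mp (x : Tg).2).2 (inv_mem (hB₀B (hWB₀ hv)))
        rwa [hiv, mul_inv_cancel_right] at h
      have hDi : D i = 1 := by
        simp only [hDdef, dg]
        rw [(haI i hi.1).eq, mul_inv_cancel_right, inv_mul_cancel]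
      rw [hiv, hDmul i hiB v (hWB₀ hv), hDi, one_mul]
      exact hDB₀ (hWB₀ hv)
    exact (Nat.card_congr (subgroupOfEquivOfLe (inf_le_right : X₀ ⊓ Tg ≤ Tg)).toEquiv).symm.trans_le
      (Nat.le_of_dvd Nat.card_pos (card_dvd_of_le hle))
  have hcardX : Nat.card X₀ * Nat.card ψ.range ≤ Nat.card X := by
    have h1 := CentLarge.card_mul_le_of_le
      (show X₀ ≤ X from fun w hw => subset_closure (Or.inl hw)) (inf_le_left : Tg ≤ X)
    rw [← Subgroup.card_mul_index ψ.ker, Subgroup.index_ker] at h1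
    refine Nat.le_of_mul_le_mul_right (c := Nat.card ψ.ker) ?_ Nat.card_pos
    calc Nat.card X₀ * Nat.card ψ.range * Nat.card ψ.ker
        = Nat.card X₀ * (Nat.card ψ.ker * Nat.card ψ.range) := by ring
      _ ≤ Nat.card X * Nat.card ↥(X₀ ⊓ Tg) := h1
      _ ≤ _ := Nat.mul_le_mul_left _ hkerle
  have h2 : Nat.card I * p ^ (r + 1) ≤ Nat.card X :=
    calc Nat.card I * p ^ (r + 1) = Nat.card I * p ^ e * p ^ (r + 1 - e) := by
          rw [mul_assoc, ← pow_add, show e + (r + 1 - e) = r + 1 by omega]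
      _ ≤ Nat.card X₀ * Nat.card ψ.range := Nat.mul_le_mul hX₀card hψrange
      _ ≤ _ := hcardX
  have h4 : Nat.card I * p ^ r < Nat.card I * p ^ (r + 1) :=
    Nat.mul_lt_mul_of_pos_left (Nat.pow_lt_pow_right hpp.one_lt (Nat.lt_succ_self r)) Nat.card_pos
  exact lt_irrefl _ ((h4.trans_le (h2.trans (hmax X hXle hXc))).trans_le hcardA)

end Cfsg.Agent.ThompsonFive
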