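import Cfsg.Agent.KInf.AbTop

/-!
# A chief layer of a normal `p`-subgroup moved by a given element
-/

set_option autoImplicit false

namespace Cfsg.Agent.ThompsonFive

open Subgroup KInf
open scoped commutatorElement

universe u

variable {G : Type u} [Group G] [Finite G] {p : ℕ} [hp : Fact p.Prime]

/-- If `g` is fixed-point-free on a nontrivial normal abelian `p'`-section above the self-centralising
normal `p`-subgroup `O` of a group with an abelian top, then `p - 1` differences of `g` do not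
vanish on a suitable class-two layer `B` of `O`. -/
theorem exists_layer {O X : Subgroup G} [O.Normal] [X.Normal] (hO : IsPGroup p O)
    (hC : centralizer (O : Set G) ≤ O) (hOX : O ≤ X) (hne : ¬ X ≤ O) {m : ℕ} (hcop : m.Coprime p)
    (hXm : ∀ x ∈ X, x ^ m ∈ O) (hab : AbTop p G) (g : G)
    (hg : ∀ x ∈ X, ∃ y ∈ X, (dg g y)⁻¹ * x ∈ O) :
    ∃ (B B₀ : Subgroup G) (_ : B.Normal) (_ : B₀.Normal), B ≤ O ∧ B₀ ≤ B ∧
      (∀ u ∈ B, ∀ z ∈ B₀, Commute u z) ∧ ⁅B, B⁆ ≤ B₀ ∧ (∀ u ∈ B, u ^ p ∈ B₀) ∧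
      (∀ o ∈ O, ∀ u ∈ B, dg o u ∈ B₀) ∧ ∃ b ∈ B, (dg g)^[p - 1] b ∉ B₀ := by
  set Q : Subgroup G := closure {k | k ∈ X ∧ (orderOf k).Coprime p} with hQ
  have hQn : Q.Normal := by
    refine normalizer_eq_top_iff.mp (eq_top_iff.mpr fun c _ => ?_)
    refine Control.mem_normalizer_of_cjSub_eq (eq_of_le_of_card_ge ?_ (Control.card_cjSub c Q).ge)
    rw [Control.cjSub, hQ, MonoidHom.map_closure, closure_le]
    rintro _ ⟨k, ⟨hk, hk'⟩, rfl⟩
    refine subset_closure ⟨(‹X.Normal›).conj_mem k hk c, ?_⟩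
    have : orderOf ((MulAut.conj c).toMonoidHom k) = orderOf k :=
      orderOf_injective _ (MulAut.conj c).injective k
    rwa [this]
  have hQX : Q ≤ X := (closure_le _).mpr fun k hk => hk.1
  have hQO : ¬ Q ≤ centralizer (O : Set G) := by
    intro h
    refine hne fun x hx => ?_
    obtain ⟨a, ha⟩ := exists_pow_coprime (p := p) x
    have h1 : x ^ p ^ a ∈ O := hC (h (subset_closure ⟨pow_mem hx _, ha⟩))
    have h2 : (x : G ⧸ O) ^ p ^ a = 1 := by
      rw [← QuotientGroup.mk_pow, QuotientGroup.eq_one_iff]; exact h1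
    have h3 : (x : G ⧸ O) ^ m = 1 := by
      rw [← QuotientGroup.mk_pow, QuotientGroup.eq_one_iff]; exact hXm x hx
    have h4 := pow_gcd_eq_one.mpr ⟨h2, h3⟩
    rw [Nat.Coprime.gcd_eq_one (Nat.Coprime.pow_left a (Nat.coprime_comm.mp hcop)), pow_one] at h4
    exact (QuotientGroup.eq_one_iff x).mp h4
  -- the layer
  obtain ⟨B, ⟨hBn, hBO, hBQ⟩, hBmin⟩ := Set.exists_min_image
    {B : Subgroup G | B.Normal ∧ B ≤ O ∧ ¬ Q ≤ centralizer (B : Set G)} (fun B => Nat.card B)
    (Set.toFinite _) ⟨O, inferInstance, le_rfl, hQO⟩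
  set B₀ := B ⊓ centralizer (Q : Set G) with hB₀
  have hB₀n : B₀.Normal := inferInstance
  have hB₀le : B₀ ≤ B := inf_le_left
  have hsmall : ∀ N : Subgroup G, N.Normal → N ≤ B → N ≠ B → N ≤ B₀ := by
    intro N hN hle hneq
    refine le_inf hle (le_centralizer_iff.mp (by_contra fun h => ?_))
    exact hneq (eq_of_le_of_card_ge hle (hBmin N ⟨hN, hle.trans hBO, h⟩))
  have hne₀ : B₀ ≠ B := fun h => hBQ (le_centralizer_iff.mp (h.symm.le.trans inf_le_right))
  have hch : Cfsg.IsChiefFactor B B₀ :=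
    ⟨lt_of_le_of_ne hB₀le hne₀, hBn, hB₀n, fun N hN h1 h2 => by
      rcases eq_or_ne N B with h | h
      · exact Or.inr h
      · exact Or.inl (le_antisymm (hsmall N hN h2 h) h1)⟩
  have hBp : IsPGroup p B := hO.to_le hBO
  -- coprime elements acting trivially modulo a centralised subgroup
  have hcen : ∀ W : Subgroup G, W ≤ B → W ≤ centralizer (Q : Set G) →
      (∀ k ∈ X, (orderOf k).Coprime p → ∀ u ∈ B, ⁅k, u⁆ ∈ W) → False := by
    intro W hWB hWQ h
    refine hBQ ((closure_le _).mpr ?_)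
    rintro k ⟨hk, hk'⟩
    refine mem_centralizer_iff.mpr fun u hu => ?_
    set c := ⁅k, u⁆ with hc
    have hcW : c ∈ W := h k hk hk' u hu
    have hkc : Commute k c :=
      (mem_centralizer_iff.mp (hWQ hcW) k (subset_closure ⟨hk, hk'⟩))
    have hiter : ∀ j : ℕ, k ^ j * u * (k ^ j)⁻¹ = c ^ j * u := by
      intro j
      induction j with
      | zero => simp
      | succ j ih =>
        calc k ^ (j + 1) * u * (k ^ (j + 1))⁻¹ = k * (k ^ j * u * (k ^ j)⁻¹) * k⁻¹ := by
              rw [pow_succ']; group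
          _ = k * c ^ j * k⁻¹ * (k * u * k⁻¹) := by rw [ih]; group
          _ = c ^ j * (c * u) := by
              rw [(hkc.pow_right j).eq, mul_inv_cancel_right, hc, commutatorElement_def]; group
          _ = c ^ (j + 1) * u := by rw [pow_succ, mul_assoc]
    have h1 := hiter (orderOf k)
    rw [pow_orderOf_eq_one, one_mul, inv_one, mul_one] at h1
    have h2 : c ^ orderOf k = 1 := right_eq_mul.mp h1
    obtain ⟨a, ha⟩ := hBp ⟨c, hWB hcW⟩
    have h3 : c ^ p ^ a = 1 := congrArg Subtype.val ha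
    have h4 := pow_gcd_eq_one.mpr ⟨h3, h2⟩
    rw [Nat.Coprime.gcd_eq_one (Nat.Coprime.pow_left a (Nat.coprime_comm.mp hk')), pow_one] at h4
    exact (commutatorElement_eq_one_iff_mul_comm.mp h4).symm
  have hBQeq : ⁅B, Q⁆ = B := by
    by_contra h
    have hle : ⁅B, Q⁆ ≤ B := commutator_le_left B Q
    refine hcen ⁅B, Q⁆ hle ((hsmall _ inferInstance hle h).trans inf_le_right)
      fun k hk hk' u hu => ?_
    rw [← commutatorElement_inv]
    exact inv_mem (commutator_mem_commutator hu (subset_closure ⟨hk, hk'⟩))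
  have hB₀Q : ⁅B₀, Q⁆ = ⊥ := commutator_eq_bot_iff_le_centralizer.mpr inf_le_right
  have hcom : ⁅B, B₀⁆ = ⊥ := by
    have h1 : ⁅⁅Q, B₀⁆, B⁆ = ⊥ := by
      rw [Subgroup.commutator_comm Q, hB₀Q, Subgroup.commutator_bot_left]
    have h2 : ⁅⁅B₀, B⁆, Q⁆ = ⊥ :=
      le_bot_iff.mp (hB₀Q ▸ commutator_mono (commutator_le_left B₀ B) le_rfl)
    have := commutator_commutator_eq_bot_of_rotate h1 h2
    rwa [hBQeq] at this
  -- the group `O` acts trivially on the layer
  have hminV := Control.isMinNormal_image hch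
  obtain ⟨hcommV, hexpV⟩ := Control.image_facts hch hBp
  set π := QuotientGroup.mk' B₀ with hπ
  have hπs := QuotientGroup.mk'_surjective B₀
  have := hminV.normal
  set K := (centralizer (B.map π : Set (G ⧸ B₀))).comap π with hKdef
  have hKn : K.Normal := Normal.comap inferInstance π
  have hOK : O ≤ K := by
    have : (O.map π).Normal := (‹O.Normal›).map π hπs
    refine map_le_iff_le_comap.mp (le_centralizer_of_pPower (hBp.map π) hminV ?_)
    rintro _ ⟨o, ho, rfl⟩
    obtain ⟨a, ha⟩ := hO ⟨o, ho⟩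
    refine ⟨a, ?_⟩
    rw [← map_pow, show o ^ p ^ a = 1 from congrArg Subtype.val ha, map_one]
    exact one_mem _
  refine ⟨B, B₀, hBn, hB₀n, hBO, hB₀le, fun u hu z hz => ?_, ?_, fun u hu => ?_,
    fun o ho u hu => ?_, ?_⟩
  · exact commutatorElement_eq_one_iff_mul_comm.mp
      (mem_bot.mp (hcom ▸ commutator_mem_commutator hu hz))
  · refine commutator_le.mpr fun u hu v hv => (QuotientGroup.eq_one_iff _).mp ?_
    change π ⁅u, v⁆ = 1
    rw [map_commutatorElement, commutatorElement_eq_one_iff_mul_comm]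
    exact congrArg (fun z : B.map π => (z : G ⧸ B₀))
      (hcommV.is_comm.comm ⟨π u, mem_map_of_mem π hu⟩ ⟨π v, mem_map_of_mem π hv⟩)
  · refine (QuotientGroup.eq_one_iff _).mp ?_
    change π (u ^ p) = 1
    rw [map_pow]
    exact hexpV _ (mem_map_of_mem π hu)
  · rw [dg, show u⁻¹ * (o * u * o⁻¹) = u⁻¹ * ⁅o, u⁆ * u by rw [commutatorElement_def]; group]
    simpa using hB₀n.conj_mem _ ((trivOn_iff.mpr (hOK ho) : TrivOn o B B₀) u hu) u⁻¹
  · by_contra hcon
    push Not at hcon
    have hBB : ⁅B, B⁆ ≤ B₀ := commutator_le.mpr fun u hu v hv => (QuotientGroup.eq_one_iff _).mp (by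
      change π ⁅u, v⁆ = 1
      rw [map_commutatorElement, commutatorElement_eq_one_iff_mul_comm]
      exact congrArg (fun z : B.map π => (z : G ⧸ B₀))
        (hcommV.is_comm.comm ⟨π u, mem_map_of_mem π hu⟩ ⟨π v, mem_map_of_mem π hv⟩))
    have htriv : TrivOn g B B₀ :=
      trivOn_of_abTop hab hch hBp (iter_le_of_dg hBB g (p - 1) hcon)
    have hgK : g ∈ K := trivOn_iff.mp htriv
    have hXK : X ≤ K := by
      intro x hx
      obtain ⟨y, hy, hxy⟩ := hg x hx
      have h1 : dg g y ∈ K := by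
        rw [dg, ← mul_assoc, ← mul_assoc]
        refine mul_mem ?_ (inv_mem hgK)
        simpa using hKn.conj_mem g hgK y⁻¹
      have := mul_mem h1 (hOK hxy)
      rwa [mul_inv_cancel_left] at this
    exact hcen B₀ hB₀le inf_le_right fun k hk _ u hu =>
      (trivOn_iff.mpr (hXK hk) : TrivOn k B B₀) u hu

end Cfsg.Agent.ThompsonFive
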