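import Cfsg.Agent.ThompsonFive.Setup
import Cfsg.Agent.ThompsonFive.Layer
import Cfsg.Agent.ThompsonFive.Count

/-!
# For `p ≥ 5` the largest abelian `p`-subgroups centralise abelian `p'`-layers
-/

set_option autoImplicit false
set_option maxHeartbeats 1000000

namespace Cfsg.Agent.ThompsonFive

open Subgroup KInf
open scoped commutatorElement Pointwise

universe u

variable {G : Type u} [Group G] {p : ℕ} [hp : Fact p.Prime]

theorem dg_iterate_prime_pow {N : Subgroup G} [N.Normal] [IsMulCommutative N]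
    (hexp : ∀ x ∈ N, x ^ p = 1) (a : G) (k : ℕ) {u : G} (hu : u ∈ N) :
    (dg a)^[p ^ k] u = dg (a ^ p ^ k) u := by
  open scoped IsMulCommutative in
  have h : ∀ x : N, ((Additive.toMul (((conjEnd N a - 1) ^ p ^ k) (Additive.ofMul x)) : N) : G) =
      dg (a ^ p ^ k) x := by
    intro x
    have h0 : ((p : ℕ) : AddMonoid.End (Additive N)) = 0 := by
      refine AddMonoidHom.ext fun x => ?_
      change p • x = 0
      exact Additive.toMul.injective (Subtype.ext (by simpa using hexp _ (Additive.toMul x).2))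
    obtain ⟨w, hw⟩ := (Commute.one_right (conjEnd N a - 1)).exists_add_pow_prime_pow_eq hp.out k
    rw [sub_add_cancel, one_pow, h0, zero_mul, zero_mul, zero_mul, add_zero, ← map_pow] at hw
    rw [show (conjEnd N a - 1) ^ p ^ k = conjEnd N (a ^ p ^ k) - 1 from eq_sub_of_add_eq hw.symm]
    show a ^ p ^ k * (x : G) * (a ^ p ^ k)⁻¹ / (x : G) = dg (a ^ p ^ k) x
    have hc : Commute (a ^ p ^ k * (x : G) * (a ^ p ^ k)⁻¹) (x : G)⁻¹ :=
      congrArg Subtype.val (mul_comm (⟨_, (‹N.Normal›).conj_mem _ x.2 _⟩ : N) x⁻¹)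
    rw [div_eq_mul_inv, hc.eq, dg]
  open scoped IsMulCommutative in
  have hiter : ∀ (j : ℕ) (x : N),
      ((Additive.toMul (((conjEnd N a - 1) ^ j) (Additive.ofMul x)) : N) : G) = (dg a)^[j] x := by
    intro j
    induction j with
    | zero => exact fun x => rfl
    | succ j ih =>
      intro x
      rw [pow_succ', Function.iterate_succ_apply', ← ih x]
      have hc : ∀ w : N, a * (w : G) * a⁻¹ / (w : G) = dg a (w : G) := fun w => by
        have h := congrArg Subtype.val (mul_comm (⟨_, (‹N.Normal›).conj_mem _ w.2 a⟩ : N) w⁻¹)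
        rw [div_eq_mul_inv, dg]
        exact h
      exact hc _
  exact (hiter (p ^ k) ⟨u, hu⟩).symm.trans (h ⟨u, hu⟩)

theorem two_mul_add_two_le (h5 : 5 ≤ p) {r : ℕ} (hr : 1 ≤ r) :
    2 * r + 2 ≤ p ^ (r - 1) * (p - 1) := by
  have h1 : r - 1 < p ^ (r - 1) := Nat.lt_pow_self hp.out.one_lt
  have h2 : p ^ (r - 1) * 4 ≤ p ^ (r - 1) * (p - 1) := Nat.mul_le_mul_left _ (by omega)
  omega

variable [Finite G]

/-- The configuration of a fixed-point-free generator above a self-centralising normal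
`p`-subgroup is impossible. -/
theorem core (h5 : 5 ≤ p) {O X A I : Subgroup G} [O.Normal] [X.Normal] (hO : IsPGroup p O)
    (hC : centralizer (O : Set G) ≤ O) (hOX : O ≤ X) (hne : ¬ X ≤ O) {m : ℕ} (hcop : m.Coprime p)
    (hXm : ∀ x ∈ X, x ^ m ∈ O) (hab : AbTop p G) (hA : IsMulCommutative A)
    (hmax : ∀ Y : Subgroup G, Y ≤ O ⊔ A → IsMulCommutative Y → Nat.card Y ≤ Nat.card A)
    (hIA : I ≤ A) (hIO : I ≤ O) {a : G} (ha : a ∈ A) (hgen : A ≤ I ⊔ zpowers a) {r : ℕ}
    (hr : 1 ≤ r) (har : a ^ p ^ r ∈ I)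
    (hg : ∀ x ∈ X, ∃ y ∈ X, (dg (a ^ p ^ (r - 1)) y)⁻¹ * x ∈ O) : False := by
  classical
  obtain ⟨B, B₀, hBn, hB₀n, hBO, hB₀B, hcen, hBB, hexp, hOB, b, hb, hbn⟩ :=
    exists_layer hO hC hOX hne hcop hXm hab (a ^ p ^ (r - 1)) hg
  set π := QuotientGroup.mk' B₀ with hπ
  have hπs := QuotientGroup.mk'_surjective B₀
  set V := B.map π with hV
  have hVn : V.Normal := hBn.map π hπs
  have hVc : IsMulCommutative V := by
    refine Fusion.isMulCommutative_of_forall ?_
    rintro _ ⟨u, hu, rfl⟩ _ ⟨v, hv, rfl⟩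
    change π u * π v = π v * π u
    rw [← commutatorElement_eq_one_iff_mul_comm, ← map_commutatorElement]
    exact (QuotientGroup.eq_one_iff _).mpr (hBB (commutator_mem_commutator hu hv))
  have hVe : ∀ x ∈ V, x ^ p = 1 := by
    rintro _ ⟨u, hu, rfl⟩
    rw [← map_pow]
    exact (QuotientGroup.eq_one_iff _).mpr (hexp u hu)
  have hpow : ∀ k, ∀ u ∈ V, (dg (π a))^[p ^ k] u = dg (π a ^ p ^ k) u :=
    fun k u hu => dg_iterate_prime_pow hVe (π a) k hu
  have hex : ∃ n, (dg a)^[n] b ∈ B₀ := by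
    refine ⟨p ^ r, (QuotientGroup.eq_one_iff _).mp ?_⟩
    change π _ = 1
    rw [map_dg_iterate, hpow r _ (mem_map_of_mem π hb), ← map_pow, ← map_dg]
    exact (QuotientGroup.eq_one_iff _).mpr (hOB _ (hIO har) b hb)
  have hlarge : p ^ (r - 1) * (p - 1) < Nat.find hex := by
    by_contra hle
    push Not at hle
    refine hbn ((QuotientGroup.eq_one_iff _).mp ?_)
    change π _ = 1
    have key : ∀ j, ∀ u ∈ V, (dg (π a ^ p ^ (r - 1)))^[j] u = ((dg (π a))^[p ^ (r - 1)])^[j] u := by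
      intro j
      induction j with
      | zero => exact fun u _ => rfl
      | succ j ih =>
        intro u hu
        rw [Function.iterate_succ_apply', Function.iterate_succ_apply', ← ih u hu,
          hpow (r - 1) _ (dg_iterate_mem _ hu j)]
    rw [map_dg_iterate, map_pow, key _ _ (mem_map_of_mem π hb), ← Function.iterate_mul,
      ← map_dg_iterate]
    obtain ⟨d, hd⟩ := Nat.exists_eq_add_of_le hle
    refine (QuotientGroup.eq_one_iff _).mpr ?_
    rw [hd, add_comm, Function.iterate_add_apply]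
    exact dg_iterate_mem a (Nat.find_spec hex) d
  have hnr : 2 * r + 3 ≤ Nat.find hex := by
    have := two_mul_add_two_le h5 hr
    omega
  exact count hO hIO hA hIA hmax ha hgen har hBO hB₀B hcen hBB hOB hb (Nat.find_spec hex)
    (fun k hk => Nat.find_min hex hk) hnr

/-- For `p ≥ 5` an abelian `p`-subgroup `A` which is largest among the abelian subgroups of `OA`,
`O` a self-centralising normal `p`-subgroup, centralises every abelian `p'`-group `M / O`. -/
theorem commutator_mem (h5 : 5 ≤ p) {O M : Subgroup G} [O.Normal] [M.Normal] (hO : IsPGroup p O)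
    (hC : centralizer (O : Set G) ≤ O) (hOM : O ≤ M) {m : ℕ} (hcop : m.Coprime p)
    (hMc : ∀ x ∈ M, ∀ y ∈ M, ⁅x, y⁆ ∈ O) (hMe : ∀ x ∈ M, x ^ m ∈ O) {A : Subgroup G}
    (hA : IsMulCommutative A) (hAp : IsPGroup p A)
    (hmax : ∀ Y : Subgroup G, Y ≤ O ⊔ A → IsMulCommutative Y → Nat.card Y ≤ Nat.card A) :
    ∀ c ∈ A, ∀ x ∈ M, ⁅c, x⁆ ∈ O := by
  by_contra hcon
  push Not at hcon
  obtain ⟨c₀, hc₀, x₀, hx₀, hcx⟩ := hcon
  set π := QuotientGroup.mk' O with hπ
  have hπs := QuotientGroup.mk'_surjective O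
  have hπO : ∀ y, π y = 1 ↔ y ∈ O := fun y => QuotientGroup.eq_one_iff y
  set Mb := M.map π with hMb
  have hMbn : Mb.Normal := (‹M.Normal›).map π hπs
  have hMbc : IsMulCommutative Mb := by
    refine Fusion.isMulCommutative_of_forall ?_
    rintro _ ⟨u, hu, rfl⟩ _ ⟨v, hv, rfl⟩
    change π u * π v = π v * π u
    rw [← commutatorElement_eq_one_iff_mul_comm, ← map_commutatorElement, hπO]
    exact hMc u hu v hv
  let ρ : A →* MulAut Mb := (MulAut.conjNormal (H := Mb)).comp (π.comp A.subtype)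
  have hρ : ∀ (c : A) (v : Mb), ((ρ c v : Mb) : G ⧸ O) = π c * v * (π c)⁻¹ := fun c v =>
    MulAut.conjNormal_apply _ _
  open scoped IsMulCommutative in
  obtain ⟨I, a, r, Xv, hr, hgen, har, hIX, hXinv, hXne, hfpf⟩ := exists_fpf hAp ρ hcop
    (fun v => by
      obtain ⟨u, hu, hv⟩ := v.2
      refine Subtype.ext ?_
      rw [SubmonoidClass.coe_pow, ← hv, ← map_pow]
      exact (hπO _).mpr (hMe u hu))
    ⟨⟨c₀, hc₀⟩, ⟨π x₀, mem_map_of_mem π hx₀⟩, fun h => hcx ((hπO _).mp (by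
      have h1 := congrArg Subtype.val h
      rw [hρ] at h1
      rw [map_commutatorElement, commutatorElement_eq_one_iff_mul_comm]
      exact mul_inv_eq_iff_eq_mul.mp h1))⟩
  set Xs := (Xv.map Mb.subtype).comap π with hXs
  set IG := I.map A.subtype with hIG
  have hIGA : IG ≤ A := map_subtype_le I
  have hOXs : O ≤ Xs := fun y hy => by
    rw [hXs, mem_comap, (hπO y).mpr hy]; exact one_mem _
  have hXsM : Xs ≤ M := by
    intro y hy
    obtain ⟨v, -, hv⟩ := hy
    obtain ⟨u, hu, hu'⟩ := v.2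
    have h1 : π (u⁻¹ * y) = 1 := by
      rw [map_mul, map_inv, hu', ← hv, Subgroup.coe_subtype, inv_mul_cancel]
    have := mul_mem hu (hOM ((hπO _).mp h1))
    rwa [mul_inv_cancel_left] at this
  have hXsI : ∀ x ∈ Xs, ∀ i ∈ IG, Commute (π i) (π x) := by
    rintro x ⟨v, hv, hvx⟩ _ ⟨i, hi, rfl⟩
    have h1 := congrArg Subtype.val (hIX i hi v hv)
    rw [hρ, show (v : G ⧸ O) = π x from hvx] at h1
    exact mul_inv_eq_iff_eq_mul.mp h1
  have hXsA : ∀ c ∈ A, ∀ x ∈ Xs, c * x * c⁻¹ ∈ Xs := by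
    rintro c hc x ⟨v, hv, hvx⟩
    refine ⟨ρ ⟨c, hc⟩ v, hXinv _ v hv, ?_⟩
    rw [Subgroup.coe_subtype, hρ, show (v : G ⧸ O) = π x from hvx, map_mul, map_mul, map_inv]
  set L := Xs ⊔ A with hL
  set O' := O ⊔ IG with hO'
  set X' := Xs ⊔ IG with hX'
  have hO'L : O' ≤ L := sup_le (hOXs.trans le_sup_left) (hIGA.trans le_sup_right)
  have hX'L : X' ≤ L := sup_le le_sup_left (hIGA.trans le_sup_right)
  have hAN : ∀ {S : Subgroup G}, (∀ c ∈ A, ∀ y ∈ S, c * y * c⁻¹ ∈ S) → A ≤ normalizer (S : Set G) :=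
    fun h => le_normalizer_iff.mpr h
  have hAIG : ∀ c ∈ A, ∀ y ∈ IG, c * y * c⁻¹ = y := fun c hc y hy => by
    rw [(Fusion.commute_of_isMulCommutative hA hc (hIGA hy)).eq, mul_inv_cancel_right]
  have hsupN : ∀ {S T : Subgroup G} (g : G), (∀ s ∈ S, g * s * g⁻¹ ∈ S ⊔ T) →
      (∀ t ∈ T, g * t * g⁻¹ ∈ S ⊔ T) → ∀ y ∈ S ⊔ T, g * y * g⁻¹ ∈ S ⊔ T := by
    intro S T g h1 h2 y hy
    have : S ⊔ T ≤ (S ⊔ T).comap (MulAut.conj g).toMonoidHom := sup_le h1 h2
    exact this hy
  have hLO' : L ≤ normalizer (O' : Set G) := by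
    refine sup_le (le_normalizer_iff.mpr fun x hx y hy => ?_) (hAN fun c hc y hy => ?_)
    · refine hsupN x (fun s hs => mem_sup_left ((‹O.Normal›).conj_mem s hs x)) (fun t ht => ?_) y hy
      rw [show x * t * x⁻¹ = ⁅x, t⁆ * t by rw [commutatorElement_def]; group]
      refine mul_mem (mem_sup_left ((hπO _).mp ?_)) (mem_sup_right ht)
      rw [map_commutatorElement, commutatorElement_eq_one_iff_mul_comm]
      exact (hXsI x hx t ht).symm.eq
    · exact hsupN c (fun s hs => mem_sup_left ((‹O.Normal›).conj_mem s hs c))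
        (fun t ht => mem_sup_right ((hAIG c hc t ht).symm ▸ ht)) y hy
  have hLX' : L ≤ normalizer (X' : Set G) := by
    refine sup_le (le_sup_left.trans le_normalizer) (hAN fun c hc y hy => ?_)
    exact hsupN c (fun s hs => mem_sup_left (hXsA c hc s hs))
      (fun t ht => mem_sup_right ((hAIG c hc t ht).symm ▸ ht)) y hy
  have hIGp : IsPGroup p IG := hAp.to_le hIGA
  have hO'p : IsPGroup p O' := IsPGroup.to_sup_of_normal_left hO hIGp
  have hX'c : ∀ u ∈ X', ∀ v ∈ X', ⁅u, v⁆ ∈ O := by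
    have hgen' : X' ≤ (closure (π '' ((Xs : Set G) ∪ IG))).comap π := sup_le
      (fun y hy => subset_closure ⟨y, Or.inl hy, rfl⟩) (fun y hy => subset_closure ⟨y, Or.inr hy, rfl⟩)
    have hc : IsMulCommutative (closure (π '' ((Xs : Set G) ∪ IG))) := isMulCommutative_closure (by
      rintro _ ⟨s, hs, rfl⟩ _ ⟨t, ht, rfl⟩
      rcases hs with hs | hs <;> rcases ht with ht | ht
      · rw [← commutatorElement_eq_one_iff_mul_comm, ← map_commutatorElement, hπO]
        exact hMc s (hXsM hs) t (hXsM ht)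
      · exact (hXsI s hs t ht).symm.eq
      · exact (hXsI t ht s hs).eq
      · rw [← map_mul, ← map_mul, (Fusion.commute_of_isMulCommutative hA (hIGA hs) (hIGA ht)).eq])
    intro u hu v hv
    rw [← hπO, map_commutatorElement, commutatorElement_eq_one_iff_mul_comm]
    exact (Fusion.commute_of_isMulCommutative hc (hgen' hu) (hgen' hv)).eq
  have hX'dec : ∀ u ∈ X', ∃ x ∈ Xs, ∃ i ∈ IG, u = x * i := by
    intro u hu
    have hn : IG ≤ normalizer (Xs : Set G) := hIGA.trans (hAN hXsA)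
    rw [hX', ← SetLike.mem_coe, coe_mul_of_right_le_normalizer_left Xs IG hn] at hu
    obtain ⟨x, hx, i, hi, rfl⟩ := hu
    exact ⟨x, hx, i, hi, rfl⟩
  have hX'm : ∀ u ∈ X', u ^ m ∈ O' := by
    intro u hu
    obtain ⟨x, hx, i, hi, rfl⟩ := hX'dec u hu
    have h1 : (x * i) ^ m * (i ^ m)⁻¹ ∈ O := by
      rw [← hπO, map_mul, map_pow, map_mul, ((hXsI x hx i hi).symm).mul_pow, ← map_pow π x,
        (hπO _).mpr (hMe x (hXsM hx)), one_mul, map_inv, map_pow, mul_inv_cancel]
    have := mul_mem (mem_sup_left (T := IG) h1) (mem_sup_right (S := O) (pow_mem hi m))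
    rwa [inv_mul_cancel_right] at this
  have hgenG : A ≤ IG ⊔ zpowers (a : G) := by
    intro c hc
    have := mem_map_of_mem A.subtype (hgen ⟨c, hc⟩)
    rwa [Subgroup.map_sup, MonoidHom.map_zpowers] at this
  have harG : (a : G) ^ p ^ r ∈ IG := by
    rw [← SubmonoidClass.coe_pow]
    exact mem_map_of_mem A.subtype har
  have hApr : ∀ c ∈ A, c ^ p ^ r ∈ IG := by
    intro c hc
    open scoped IsMulCommutative in
    obtain ⟨i, hi, _, ⟨j, rfl⟩, hij⟩ := mem_sup.mp (hgen ⟨c, hc⟩)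
    refine ⟨(⟨c, hc⟩ : A) ^ p ^ r, ?_, rfl⟩
    open scoped IsMulCommutative in
    rw [← hij, mul_pow]
    refine mul_mem (pow_mem hi _) ?_
    rw [← zpow_natCast (a ^ j), ← zpow_mul, mul_comm, zpow_mul, zpow_natCast]
    exact zpow_mem har j
  -- work inside `L`
  set f := L.subtype with hf
  have hback : ∀ {S : Subgroup G}, S ≤ L → (S.subgroupOf L).map f = S := fun h =>
    map_subgroupOf_eq_of_le h
  have hO'n : (O'.subgroupOf L).Normal := (normal_subgroupOf_iff_le_normalizer hO'L).mpr hLO'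
  have hX'n : (X'.subgroupOf L).Normal := (normal_subgroupOf_iff_le_normalizer hX'L).mpr hLX'
  have hO'pL : IsPGroup p (O'.subgroupOf L) := hO'p.comap_subtype
  have habL : AbTop p L := by
    refine ⟨O'.subgroupOf L, X'.subgroupOf L, hO'n, hX'n, hO'pL, m, ?_, hcop,
      fun u hu v hv => mem_sup_left (hX'c _ hu _ hv), fun u hu => hX'm _ hu, fun l => ?_⟩
    · rcases Nat.eq_zero_or_pos m with h | h
      · exact absurd ((Nat.coprime_zero_left p).mp (h ▸ hcop)) hp.out.ne_one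
      · exact h
    · refine ⟨r, (QuotientGroup.eq_one_iff _).mp (?_ : ((l ^ p ^ r : L) : L ⧸ X'.subgroupOf L) = 1)⟩
      have hlm : (l : G) ∈ (Xs : Set G) * (A : Set G) := by
        rw [← coe_mul_of_right_le_normalizer_left Xs A (hAN hXsA)]
        exact l.2
      obtain ⟨x, hx, c, hc, hxc⟩ := hlm
      have hcL : c ∈ L := mem_sup_right hc
      have h1 : (l : L ⧸ X'.subgroupOf L) = (⟨c, hcL⟩ : L) := QuotientGroup.eq.mpr (by
        show (l : G)⁻¹ * c ∈ X'
        rw [← hxc, show (x * c)⁻¹ * c = c⁻¹ * x⁻¹ * c⁻¹⁻¹ by group]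
        exact mem_sup_left (hXsA c⁻¹ (inv_mem hc) x⁻¹ (inv_mem hx)))
      rw [QuotientGroup.mk_pow, h1, ← QuotientGroup.mk_pow, QuotientGroup.eq_one_iff]
      exact mem_sup_right (hApr c hc)
  have hAc : IsMulCommutative (A.subgroupOf L) := Fusion.isMulCommutative_of_forall fun u hu v hv =>
    Subtype.ext (Fusion.commute_of_isMulCommutative hA (mem_subgroupOf.mp hu) (mem_subgroupOf.mp hv)).eq
  have hAL : A ≤ L := le_sup_right
  refine core (G := L) h5 (O := O'.subgroupOf L) (X := X'.subgroupOf L) (A := A.subgroupOf L)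
    (I := IG.subgroupOf L) (a := ⟨a, hAL a.2⟩) (r := r) (m := m) hO'pL
    ?_ ?_ ?_ hcop (fun u hu => hX'm _ hu) habL hAc ?_ (fun u hu => hIGA hu)
    (fun u hu => mem_sup_right hu) a.2 ?_ hr ?_ ?_
  · intro c hc
    refine mem_sup_left (hC (mem_centralizer_iff.mpr fun y hy => ?_))
    exact congrArg Subtype.val
      (mem_centralizer_iff.mp hc ⟨y, hO'L (mem_sup_left hy)⟩ (mem_sup_left hy))
  · exact fun u hu => sup_le_sup_right hOXs IG hu
  · intro hle
    obtain ⟨⟨w, hw⟩, hwX, hw1⟩ := Xv.bot_or_exists_ne_one.resolve_left hXne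
    obtain ⟨u, hu, hu'⟩ := hw
    have hux : u ∈ Xs := ⟨⟨w, _⟩, hwX, hu'.symm⟩
    have h1 : u ∈ O' := hle (show (⟨u, mem_sup_left hux⟩ : L) ∈ X'.subgroupOf L from mem_sup_left hux)
    have h2 : π u ∈ IG.map π := by
      have h := mem_map_of_mem π h1
      rwa [hO', Subgroup.map_sup, QuotientGroup.map_mk'_self, bot_sup_eq] at h
    obtain ⟨s, hs⟩ := (hIGp.map π) ⟨π u, h2⟩
    have h3 : π u ^ p ^ s = 1 := congrArg Subtype.val hs
    have h4 : π u ^ m = 1 := by rw [← map_pow]; exact (hπO _).mpr (hMe u (hXsM hux))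
    have h5 := pow_gcd_eq_one.mpr ⟨h3, h4⟩
    rw [Nat.Coprime.gcd_eq_one (Nat.Coprime.pow_left s (Nat.coprime_comm.mp hcop)), pow_one] at h5
    exact hw1 (Subtype.ext (hu'.symm.trans h5))
  · intro Y hY hYc
    have h1 : Y.map f ≤ O ⊔ A := by
      refine (map_mono hY).trans ?_
      rw [Subgroup.map_sup, hback hO'L, hback hAL]
      exact sup_le (sup_le le_sup_left (hIGA.trans le_sup_right)) le_sup_right
    have h2 := hmax _ h1 (by
      refine Fusion.isMulCommutative_of_forall ?_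
      rintro _ ⟨u, hu, rfl⟩ _ ⟨v, hv, rfl⟩
      exact (Fusion.commute_of_isMulCommutative hYc hu hv).map f)
    rw [card_map_of_injective L.subtype_injective] at h2
    rwa [Nat.card_congr (subgroupOfEquivOfLe hAL).toEquiv]
  · rw [← map_le_map_iff_of_injective L.subtype_injective, Subgroup.map_sup, MonoidHom.map_zpowers]
    rw [hback hAL, hback (hIGA.trans hAL)]
    exact hgenG
  · exact harG
  · intro l hl
    obtain ⟨x, hx, i, hi, hxi⟩ := hX'dec (l : G) hl
    obtain ⟨v, hv, hvx⟩ := hx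
    obtain ⟨y, hy, hyv⟩ := hfpf v hv
    obtain ⟨u, hu, huy⟩ := y.2
    have hux : u ∈ Xs := ⟨y, hy, huy.symm⟩
    refine ⟨⟨u, mem_sup_left hux⟩, mem_sup_left hux, ?_⟩
    show (dg ((a : G) ^ p ^ (r - 1)) u)⁻¹ * (l : G) ∈ O'
    rw [hxi, ← mul_assoc]
    refine mul_mem (mem_sup_left ((hπO _).mp ?_)) (mem_sup_right hi)
    rw [map_mul, map_inv, inv_mul_eq_one, map_dg, ← hvx, hyv]
    rw [Subgroup.coe_subtype, Subgroup.coe_mul, hρ, InvMemClass.coe_inv, ← huy,
      SubmonoidClass.coe_pow]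
    rfl

end Cfsg.Agent.ThompsonFive
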