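import Mathlib

/-!
# A fixed-point-free section of a coprime action of an abelian `p`-group on an abelian group
-/

set_option autoImplicit false

namespace Cfsg.Agent.ThompsonFive

open Subgroup

variable {A V : Type*} [CommGroup A] [Finite A] [CommGroup V] [Finite V] {p : ℕ} [hp : Fact p.Prime]

/-- An abelian `p`-group acting nontrivially on an abelian `p'`-group has a subgroup `I` with cyclic
quotient, generated by `a` of order `p ^ r` modulo `I`, and an invariant nontrivial subgroup fixed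
by `I` on which `a ^ p ^ (r - 1)` fixes nothing. -/
theorem exists_fpf (hA : IsPGroup p A) (ρ : A →* MulAut V) {m : ℕ} (hcop : m.Coprime p)
    (hm : ∀ v : V, v ^ m = 1) (hρ : ∃ (c : A) (v : V), ρ c v ≠ v) :
    ∃ (I : Subgroup A) (a : A) (r : ℕ) (X : Subgroup V), 1 ≤ r ∧ (∀ x, x ∈ I ⊔ zpowers a) ∧
      a ^ p ^ r ∈ I ∧ (∀ i ∈ I, ∀ x ∈ X, ρ i x = x) ∧ (∀ c, ∀ x ∈ X, ρ c x ∈ X) ∧ X ≠ ⊥ ∧
      ∀ x ∈ X, ∃ y ∈ X, x = y⁻¹ * ρ (a ^ p ^ (r - 1)) y := by
  classical
  have hcomm : ∀ (c d : A) (v : V), ρ c (ρ d v) = ρ d (ρ c v) := fun c d v => by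
    rw [← MulAut.mul_apply, ← MulAut.mul_apply, ← map_mul, ← map_mul, mul_comm]
  -- the fixed points of the whole group
  let F : Subgroup V :=
    { carrier := {v | ∀ c, ρ c v = v}
      one_mem' := fun c => map_one _
      mul_mem' := fun {u w} hu hw c => by rw [map_mul, hu c, hw c]
      inv_mem' := fun {u} hu c => by rw [map_inv, hu c] }
  -- the subgroup `I`
  obtain ⟨I, ⟨v₀, hv₀I, hv₀⟩, hImax⟩ :=
    Set.exists_max_image {I : Subgroup A | ∃ v, (∀ i ∈ I, ρ i v = v) ∧ v ∉ F} (fun I => Nat.card I)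
      (Set.toFinite _) ⟨⊥, by
        obtain ⟨c, v, hcv⟩ := hρ
        exact ⟨v, fun i hi => by rw [mem_bot.mp hi, map_one]; rfl, fun h => hcv (h c)⟩⟩
  have key : ∀ h : A, h ∉ I → ∀ v, (∀ i ∈ I, ρ i v = v) → ρ h v = v → v ∈ F := by
    intro h hh v hvI hhv
    by_contra hv
    let St : Subgroup A :=
      { carrier := {c | ρ c v = v}
        one_mem' := by simp
        mul_mem' := fun {c d} (hc : ρ c v = v) (hd : ρ d v = v) =>
          show ρ (c * d) v = v by rw [map_mul, MulAut.mul_apply, hd, hc]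
        inv_mem' := fun {c} (hc : ρ c v = v) => show ρ c⁻¹ v = v by
          conv_lhs => rw [← hc, ← MulAut.mul_apply, ← map_mul, inv_mul_cancel, map_one]
          rfl }
    have h1 : I ⊔ zpowers h ≤ St := sup_le hvI (zpowers_le.mpr hhv)
    have h2 := hImax (I ⊔ zpowers h) ⟨v, fun i hi => h1 hi, hv⟩
    exact hh ((eq_of_le_of_card_ge le_sup_left h2).ge (mem_sup_right (mem_zpowers h)))
  -- norms
  let P : A → V → V := fun h v => ∏ i ∈ Finset.range p, ρ (h ^ i) v
  have hP : ∀ h : A, h ∉ I → h ^ p ∈ I → ∀ v, (∀ i ∈ I, ρ i v = v) → P h v ∈ F := by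
    intro h hh hhp v hvI
    refine key h hh _ (fun i hi => ?_) ?_
    · simp only [P, map_prod]
      exact Finset.prod_congr rfl fun k _ => by rw [hcomm, hvI i hi]
    · have e := (Finset.prod_range_succ' (fun i => ρ (h ^ i) v) p).symm.trans
        (Finset.prod_range_succ (fun i => ρ (h ^ i) v) p)
      rw [hvI _ hhp, pow_zero, map_one, MulAut.one_apply] at e
      simp only [P, map_prod, ← MulAut.mul_apply, ← map_mul, ← pow_succ']
      exact mul_right_cancel e
  have hpow : ∀ v : V, v ^ p ∈ F → v ∈ F := by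
    intro v hv
    obtain ⟨k, hk⟩ := exists_pow_eq_self_of_coprime (x := v) (n := p)
      (Nat.Coprime.coprime_dvd_right (orderOf_dvd_of_pow_eq_one (hm v)) (Nat.coprime_comm.mp hcop))
    exact hk ▸ pow_mem hv k
  -- at most one subgroup of order `p` above `I`
  have uniq : ∀ g : A, g ∉ I → g ^ p ∈ I → ∀ z : A, z ^ p ∈ I → z ∈ I ⊔ zpowers g := by
    intro g hg hgp z hzp
    by_contra hz
    have hne : ∀ k : ℕ, z * g ^ k ∉ I := fun k hk => hz (by
      have h1 := mul_mem (mem_sup_left (T := zpowers g) hk)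
        (inv_mem (pow_mem (mem_sup_right (S := I) (mem_zpowers g)) k))
      rwa [mul_inv_cancel_right] at h1)
    refine hv₀ (hpow _ ?_)
    have hzgp : ∀ k : ℕ, (z * g ^ k) ^ p ∈ I := fun k => by
      rw [mul_pow, ← pow_mul, mul_comm k, pow_mul]
      exact mul_mem hzp (pow_mem hgp k)
    have hL : ∏ k ∈ Finset.range p, P (z * g ^ k) v₀ ∈ F :=
      prod_mem fun k _ => hP _ (hne k) (hzgp k) _ hv₀I
    simp only [P] at hL
    rw [Finset.prod_comm] at hL
    obtain ⟨q, hq⟩ : ∃ q, p = q + 1 := ⟨p - 1, by have := hp.out.pos; omega⟩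
    have hterm : ∀ i ∈ Finset.range q,
        ∏ k ∈ Finset.range p, ρ ((z * g ^ k) ^ (i + 1)) v₀ ∈ F := by
      intro i hi
      have hi' := Finset.mem_range.mp hi
      have hgi : g ^ (i + 1) ∉ I := by
        intro hmem
        obtain ⟨k, hk⟩ := exists_pow_eq_self_of_coprime (x := (g : A ⧸ I)) (n := i + 1)
          (Nat.Coprime.coprime_dvd_right (orderOf_dvd_of_pow_eq_one (n := p)
            (by rw [← QuotientGroup.mk_pow, QuotientGroup.eq_one_iff]; exact hgp))
            (Nat.coprime_comm.mp ((Nat.Prime.coprime_iff_not_dvd hp.out).mpr fun hd => by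
              have := Nat.le_of_dvd (Nat.succ_pos i) hd
              omega)))
        rw [← QuotientGroup.mk_pow, (QuotientGroup.eq_one_iff _).mpr hmem, one_pow] at hk
        exact hg ((QuotientGroup.eq_one_iff g).mp hk.symm)
      have hgip : (g ^ (i + 1)) ^ p ∈ I := by rw [pow_right_comm]; exact pow_mem hgp _
      have h1 : P (g ^ (i + 1)) v₀ ∈ F := hP _ hgi hgip _ hv₀I
      have e : ∏ k ∈ Finset.range p, ρ ((z * g ^ k) ^ (i + 1)) v₀ =
          ρ (z ^ (i + 1)) (P (g ^ (i + 1)) v₀) := by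
        simp only [P, map_prod]
        refine Finset.prod_congr rfl fun k _ => ?_
        rw [← MulAut.mul_apply, ← map_mul, mul_pow, pow_right_comm]
      rw [e, h1]
      exact h1
    rw [hq, Finset.prod_range_succ' (fun i => ∏ k ∈ Finset.range (q + 1), ρ ((z * g ^ k) ^ i) v₀),
      ← hq] at hL
    simp only [pow_zero, map_one, MulAut.one_apply, Finset.prod_const, Finset.card_range] at hL
    exact (mul_mem_cancel_left (prod_mem hterm)).mp hL
  -- a generator modulo `I`
  have hex : ∀ x : A, ∃ k, x ^ p ^ k ∈ I := fun x =>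
    let ⟨k, hk⟩ := hA x
    ⟨k, hk ▸ one_mem I⟩
  obtain ⟨a, -, hmax⟩ := Set.exists_max_image (Set.univ : Set A) (fun x => Nat.find (hex x))
    Set.finite_univ ⟨1, trivial⟩
  set r := Nat.find (hex a) with hr
  have har : a ^ p ^ r ∈ I := Nat.find_spec (hex a)
  have hall : ∀ x : A, x ^ p ^ r ∈ I := fun x => by
    obtain ⟨d, hd⟩ := Nat.exists_eq_add_of_le (hmax x trivial)
    rw [hd, pow_add, pow_mul]
    exact pow_mem (Nat.find_spec (hex x)) _
  have hr1 : 1 ≤ r := by
    by_contra h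
    refine hv₀ fun c => hv₀I c ?_
    have := hall c
    rwa [show r = 0 by omega, pow_zero, pow_one] at this
  set g := a ^ p ^ (r - 1) with hgdef
  have hg : g ∉ I := fun h => by
    have := Nat.find_min' (hex a) h
    omega
  have hgp : g ^ p ∈ I := by
    rw [hgdef, ← pow_mul, ← pow_succ, Nat.sub_add_cancel hr1]
    exact har
  have hgen : ∀ k ≤ r, ∀ x : A, x ^ p ^ k ∈ I → x ∈ I ⊔ zpowers a := by
    intro k
    induction k with
    | zero => exact fun _ x hx => mem_sup_left (by simpa using hx)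
    | succ k ih =>
      intro hk x hx
      have hy : x ^ p ∈ I ⊔ zpowers a := ih (by omega) _ (by rwa [← pow_mul, ← pow_succ'])
      obtain ⟨i, hi, _, ⟨j, rfl⟩, hij⟩ := mem_sup.mp hy
      change i * a ^ j = x ^ p at hij
      have h1 : g ^ j ∈ I := by
        have h2 : (x ^ p) ^ p ^ (r - 1) ∈ I := by
          rw [← pow_mul, ← pow_succ', Nat.sub_add_cancel hr1]
          exact hall x
        rw [← hij, mul_pow, mul_mem_cancel_left (pow_mem hi _)] at h2
        rw [hgdef, ← zpow_natCast a, ← zpow_mul, mul_comm, zpow_mul, zpow_natCast]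
        exact h2
      have hord : orderOf (g : A ⧸ I) = p := orderOf_eq_prime
        (by rw [← QuotientGroup.mk_pow, QuotientGroup.eq_one_iff]; exact hgp)
        (fun h => hg ((QuotientGroup.eq_one_iff g).mp h))
      obtain ⟨j', hj'⟩ : (p : ℤ) ∣ j := by
        rw [← hord, orderOf_dvd_iff_zpow_eq_one, ← QuotientGroup.mk_zpow, QuotientGroup.eq_one_iff]
        exact h1
      have hz : (x * (a ^ j')⁻¹) ^ p ∈ I := by
        rw [mul_pow, ← hij, inv_pow, ← zpow_natCast (a ^ j') p, ← zpow_mul, mul_comm j', ← hj',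
          mul_inv_cancel_right]
        exact hi
      have hle : I ⊔ zpowers g ≤ I ⊔ zpowers a :=
        sup_le le_sup_left (zpowers_le.mpr (mem_sup_right (pow_mem (mem_zpowers a) _)))
      have := mul_mem (hle (uniq g hg hgp _ hz))
        (mem_sup_right (S := I) (zpow_mem (mem_zpowers a) j'))
      rwa [inv_mul_cancel_right] at this
  -- the fixed-point-free part
  let W : Subgroup V :=
    { carrier := {v | ∀ i ∈ I, ρ i v = v}
      one_mem' := fun i _ => map_one _
      mul_mem' := fun {u w} hu hw i hi => by rw [map_mul, hu i hi, hw i hi]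
      inv_mem' := fun {u} hu i hi => by rw [map_inv, hu i hi] }
  let δ : V →* V := (MonoidHom.id V)⁻¹ * (ρ g).toMonoidHom
  have hδ : ∀ v, δ v = v⁻¹ * ρ g v := fun v => rfl
  set X := W.map δ with hX
  have hXW : X ≤ W := by
    rintro _ ⟨v, hv, rfl⟩ i hi
    rw [hδ, map_mul, map_inv, hcomm, hv i hi]
  have hinv : ∀ c, ∀ x ∈ X, ρ c x ∈ X := by
    rintro c _ ⟨v, hv, rfl⟩
    exact ⟨ρ c v, fun i hi => by rw [hcomm, hv i hi], by rw [hδ, hδ, map_mul, map_inv, hcomm]⟩
  have hinj : ∀ x ∈ X, δ x = 1 → x = 1 := by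
    rintro _ ⟨v, hv, rfl⟩ hx
    rw [hδ (δ v), inv_mul_eq_one] at hx
    have hF := key g hg (δ v) (hXW ⟨v, hv, rfl⟩) hx.symm
    have hN := hP g hg hgp v hv
    have e1 : P g (δ v) = 1 := by
      simp only [P]
      calc ∏ i ∈ Finset.range p, ρ (g ^ i) (δ v)
          = ∏ i ∈ Finset.range p, ((ρ (g ^ i) v)⁻¹ * ρ g (ρ (g ^ i) v)) :=
            Finset.prod_congr rfl fun i _ => by rw [hδ, map_mul, map_inv, hcomm]
        _ = (P g v)⁻¹ * ρ g (P g v) := by
          simp only [P, map_prod, Finset.prod_mul_distrib, Finset.prod_inv_distrib]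
        _ = 1 := by rw [hN g, inv_mul_cancel]
    have e2 : P g (δ v) = δ v ^ p := by
      simp only [P]
      rw [Finset.prod_congr rfl fun i _ => hF (g ^ i), Finset.prod_const, Finset.card_range]
    obtain ⟨k, hk⟩ := exists_pow_eq_self_of_coprime (x := δ v) (n := p)
      (Nat.Coprime.coprime_dvd_right (orderOf_dvd_of_pow_eq_one (hm _)) (Nat.coprime_comm.mp hcop))
    rw [← e2, e1, one_pow] at hk
    exact hk.symm
  refine ⟨I, a, r, X, hr1, fun x => hgen r le_rfl x (hall x), har, fun i hi x hx => hXW hx i hi,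
    hinv, fun h => hv₀ (key g hg v₀ hv₀I ?_), fun x hx => ?_⟩
  · have h1 : δ v₀ ∈ X := ⟨v₀, hv₀I, rfl⟩
    rw [h, mem_bot, hδ, inv_mul_eq_one] at h1
    exact h1.symm
  · let f : X → X := fun y => ⟨δ y, ⟨y, hXW y.2, rfl⟩⟩
    have hf : Function.Injective f := fun y z he => by
      have h1 : δ ((y : V) * (z : V)⁻¹) = 1 := by
        rw [map_mul, map_inv, show δ (y : V) = δ (z : V) from congrArg Subtype.val he,
          mul_inv_cancel]
      exact Subtype.ext (mul_inv_eq_one.mp (hinj _ (mul_mem y.2 (inv_mem z.2)) h1))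
    obtain ⟨y, hy⟩ := (Finite.injective_iff_surjective.mp hf) ⟨x, hx⟩
    exact ⟨y, y.2, (congrArg Subtype.val hy).symm⟩

end Cfsg.Agent.ThompsonFive
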